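import Groth.Agent.AVDegLib.Ratio
import Groth.Agent.Lib.AVMulN
import Groth.Agent.GrpSchLib.HomFlat
import Groth.Agent.S12442

/-!
The degree of multiplication by `d` on an abelian variety.
-/

set_option linter.style.haveILetI false
set_option linter.unusedSectionVars false
set_option backward.isDefEq.respectTransparency false
set_option backward.isDefEq.respectTransparency.types false
set_option maxHeartbeats 1000000

universe u

open CategoryTheory CategoryTheory.Limits MonoidalCategory CartesianMonoidalCategory MonObj AlgebraicGeometry TopologicalSpace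

namespace Groth.Agent.AVDegLib

open Groth.Agent.H23 Groth.Agent.H23.TrivBasic Groth.Agent.AVCube
open scoped Groth.Agent.H23.PicMul

variable {k : Type u} [Field k] {A : Over (Spec (CommRingCat.of k))} [GrpObj A] [IsProper A.hom]
  [GeometricallyIntegral A.hom]

theorem isMonHom_pow (n : ℕ) : IsMonHom (𝟙 A ^ n : A ⟶ A) :=
  haveI : IsCommMonObj A := isCommMonObj_of_isProper_of_geometricallyIntegral A
  { one_hom := by
      rw [MonObj.comp_pow, Category.comp_id]
      have : η[A] = 1 := by rw [Hom.one_def, toUnit_unique (toUnit (𝟙_ _)) (𝟙 _), Category.id_comp]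
      rw [this, _root_.one_pow]
    mul_hom := by
      have h : μ[A] = fst A A * snd A A := by rw [Hom.mul_def, lift_fst_snd, Category.id_comp]
      rw [h, MonObj.comp_pow, Category.comp_id, _root_.mul_pow, MonObj.comp_mul,
        tensorHom_fst, tensorHom_snd, MonObj.comp_pow, MonObj.comp_pow, Category.comp_id, Category.comp_id] }

theorem flat_pow (n : ℕ) (hn : 1 ≤ n) : Flat (𝟙 A ^ n : A ⟶ A).left := by
  haveI := isMonHom_pow (A := A) n
  haveI := AVMulN.surjective_pow (A := A) n hn
  haveI := AVMulN.isFinite_pow (A := A) n hn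
  haveI : IsIntegral A.left := GeometricallyIntegral.isIntegral_of_subsingleton A.hom
  exact GrpSchLib.flat_of_surjective_hom (𝟙 A ^ n : A ⟶ A)

theorem lfp_endo (f : A ⟶ A) : LocallyOfFinitePresentation f.left := by
  haveI : IsLocallyNoetherian A.left := LocallyOfFiniteType.isLocallyNoetherian A.hom
  haveI : LocallyOfFinitePresentation A.hom := by infer_instance
  haveI : LocallyOfFinitePresentation (f.left ≫ A.hom) := by rw [Over.w]; infer_instance
  exact S12442.locallyOfFinitePresentation_of_comp f.left A.hom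

theorem isIso_inv_left : IsIso ((𝟙 A)⁻¹ : A ⟶ A).left := by
  have h : ((𝟙 A)⁻¹ : A ⟶ A) ≫ (𝟙 A)⁻¹ = 𝟙 A := by rw [GrpObj.comp_inv, Category.comp_id, _root_.inv_inv]
  exact ⟨_, by rw [← Over.comp_left, h, Over.id_left], by rw [← Over.comp_left, h, Over.id_left]⟩

theorem inv_pow_eq (n : ℕ) : ((𝟙 A ^ n : A ⟶ A))⁻¹ = (𝟙 A ^ n : A ⟶ A) ≫ (𝟙 A)⁻¹ := by
  rw [GrpObj.comp_inv, Category.comp_id]

theorem zpow_props (d : ℤ) (hd : d ≠ 0) : IsFinite (𝟙 A ^ d).left ∧ Flat (𝟙 A ^ d).left ∧
    Surjective (𝟙 A ^ d).left := by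
  have hn : 1 ≤ d.natAbs := Int.natAbs_pos.2 hd
  haveI := isIso_inv_left (A := A)
  haveI := AVMulN.isFinite_pow (A := A) _ hn
  haveI := AVMulN.surjective_pow (A := A) _ hn
  haveI := flat_pow (A := A) _ hn
  rcases Int.natAbs_eq d with h | h
  · rw [h, zpow_natCast]
    exact ⟨inferInstance, inferInstance, inferInstance⟩
  · rw [h, zpow_neg, zpow_natCast, inv_pow_eq, Over.comp_left]
    exact ⟨inferInstance, inferInstance, inferInstance⟩

/-- The pullback of a symmetric class along `[d]` is its `d²`-th power. -/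
theorem pc_zpow {L : A.left.Modules} (hL : PicF.IsInvertible L)
    (hsym : pc hL ((𝟙 A)⁻¹ : A ⟶ A) = pc hL (𝟙 A)) (d : ℤ) :
    pc hL (𝟙 A ^ d) = pc hL (𝟙 A) ^ (d.natAbs ^ 2) := by
  rcases Int.natAbs_eq d with h | h
  · conv_lhs => rw [h, zpow_natCast]
    exact AVMulN.pc_pow hL hsym _
  · conv_lhs => rw [h, zpow_neg, zpow_natCast, inv_pow_eq, ← pull_pc, hsym, pull_pc, Category.comp_id]
    exact AVMulN.pc_pow hL hsym _

theorem finrank_zpow {g : ℕ} (hg : topologicalKrullDim A.left = g) (d : ℤ) (hd : d ≠ 0) (a : A.left) :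
    Scheme.Hom.finrank (𝟙 A ^ d).left a = d.natAbs ^ (2 * g) := by
  obtain ⟨hfin, hflat, hsurj⟩ := zpow_props (A := A) d hd
  haveI := lfp_endo (𝟙 A ^ d)
  haveI : IsIntegral A.left := GeometricallyIntegral.isIntegral_of_subsingleton A.hom
  rcases (Nat.succ_le_of_lt (Int.natAbs_pos.2 hd)).eq_or_lt' with h1 | h2
  · have : IsIso (𝟙 A ^ d).left := by
      rcases Int.natAbs_eq d with h | h <;> rw [h, h1]
      · rw [zpow_natCast, pow_one, Over.id_left]; infer_instance
      · rw [zpow_neg, zpow_natCast, pow_one]; exact isIso_inv_left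
    rw [Scheme.Hom.finrank_eq_one_of_isIso, h1]
    simp
  · obtain ⟨L, hL, hs⟩ := S8121.result k A
    have hsym : pc hL.1 ((𝟙 A)⁻¹ : A ⟶ A) = pc hL.1 (𝟙 A) := by
      ext
      rw [val_pc_id, val_pc]
      exact ((PicGrp.cl_eq_cl_iff _ _).2 hs).symm
    have h := congrArg Units.val (pc_zpow hL.1 hsym d)
    rw [Units.val_pow_eq_pow_val, val_pc, val_pc_id, ← PicMul.cl_tensorPow] at h
    obtain ⟨e⟩ := (PicGrp.cl_eq_cl_iff _ _).1 h
    rw [finrank_eq_pow hg (𝟙 A ^ d) hL (by nlinarith) e a, ← pow_mul]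

end Groth.Agent.AVDegLib
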