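import Groth.Agent.AVDegLib.Degree
import Mathlib.AlgebraicGeometry.ValuativeCriterion
import Mathlib.AlgebraicGeometry.FunctionField
import Mathlib.AlgebraicGeometry.Morphisms.FlatRank
import Groth.Agent.VarDim.Top

/-!
Charts on an integral scheme over a field as subalgebras of the function field.
-/

noncomputable section

set_option linter.style.haveILetI false
set_option linter.unusedSectionVars false
set_option backward.isDefEq.respectTransparency false
set_option backward.isDefEq.respectTransparency.types false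
set_option maxHeartbeats 1000000
set_option autoImplicit false

universe u

open CategoryTheory CategoryTheory.Limits AlgebraicGeometry TopologicalSpace Opposite

namespace Groth.Agent.AVDegLib

variable {k : Type u} [Field k] (A : Over (Spec (CommRingCat.of k))) [IsIntegral A.left]

/-- The function field of `A` as an algebra over `k`. -/
scoped instance ffAlgebra : Algebra k A.left.functionField :=
  ((A.left.presheaf.germ ⊤ (genericPoint A.left) trivial).hom.comp
    ((Scheme.ΓSpecIso (CommRingCat.of k)).inv ≫ A.hom.appTop).hom).toAlgebra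

/-- The generic point lies in every nonempty open. -/
theorem eta_mem {U : A.left.Opens} {x : A.left} (hx : x ∈ U) : genericPoint A.left ∈ U :=
  ((genericPoint_spec A.left).mem_open_set_iff U.isOpen).2 ⟨x, trivial, hx⟩

variable {A}

/-- The germ at the generic point. -/
abbrev gm (U : A.left.Opens) (h : genericPoint A.left ∈ U) : Γ(A.left, U) →+* A.left.functionField :=
  (A.left.presheaf.germ U (genericPoint A.left) h).hom

theorem gm_res {U V : A.left.Opens} (i : V ≤ U) (h : genericPoint A.left ∈ V) (a : Γ(A.left, U)) :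
    gm V h (A.left.presheaf.map (homOfLE i).op a) = gm U (i h) a :=
  A.left.presheaf.germ_res_apply (homOfLE i) _ h a

theorem gm_injective (U : A.left.Opens) (h : genericPoint A.left ∈ U) : Function.Injective (gm U h) :=
  germ_injective_of_isIntegral A.left (genericPoint A.left) h

theorem algebraMap_mem (U : A.left.Opens) (h : genericPoint A.left ∈ U) (c : k) :
    ∃ a, gm U h a = algebraMap k A.left.functionField c :=
  ⟨A.left.presheaf.map (homOfLE le_top).op
    (((Scheme.ΓSpecIso (CommRingCat.of k)).inv ≫ A.hom.appTop) c), gm_res le_top h _⟩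

variable (A) in
/-- The rational functions regular on an open. -/
def sect (U : A.left.Opens) : Subalgebra k A.left.functionField where
  carrier := {f | ∀ h : genericPoint A.left ∈ U, ∃ a, gm U h a = f}
  mul_mem' := fun {f g} hf hg h => by
    obtain ⟨a, ha⟩ := hf h; obtain ⟨b, hb⟩ := hg h
    exact ⟨a * b, by rw [map_mul, ha, hb]⟩
  add_mem' := fun {f g} hf hg h => by
    obtain ⟨a, ha⟩ := hf h; obtain ⟨b, hb⟩ := hg h
    exact ⟨a + b, by rw [map_add, ha, hb]⟩
  algebraMap_mem' := fun c h => algebraMap_mem U h c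

theorem mem_sect {U : A.left.Opens} (h : genericPoint A.left ∈ U) {f : A.left.functionField} :
    f ∈ sect A U ↔ ∃ a, gm U h a = f := ⟨fun hf => hf h, fun hf _ => hf⟩

theorem gm_mem_sect {U : A.left.Opens} (h : genericPoint A.left ∈ U) (a : Γ(A.left, U)) : gm U h a ∈ sect A U :=
  fun _ => ⟨a, rfl⟩

theorem sect_mono {U V : A.left.Opens} (i : V ≤ U) : sect A U ≤ sect A V := fun f hf h => by
  obtain ⟨a, ha⟩ := hf (i h)
  exact ⟨_, (gm_res i h a).trans ha⟩

/-- Gluing of rational functions. -/
theorem mem_sect_of_local {U : A.left.Opens} {f : A.left.functionField}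
    (h : ∀ x ∈ U, ∃ V : A.left.Opens, x ∈ V ∧ f ∈ sect A V) : f ∈ sect A U := fun hη => by
  choose V hxV hf using fun x : U => h x.1 x.2
  have hη' : ∀ x : U, genericPoint A.left ∈ V x ⊓ U := fun x => ⟨eta_mem A (hxV x), hη⟩
  choose a ha using fun x : U => sect_mono (inf_le_left : V x ⊓ U ≤ V x) (hf x) (hη' x)
  obtain ⟨s, hs, -⟩ := TopCat.Sheaf.existsUnique_gluing' A.left.sheaf (fun x : U => V x ⊓ U) U
    (fun x => homOfLE inf_le_right) (fun x hx => Opens.mem_iSup.2 ⟨⟨x, hx⟩, hxV ⟨x, hx⟩, hx⟩) a
    fun x y => by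
      have hxy : genericPoint A.left ∈ (V x ⊓ U) ⊓ (V y ⊓ U) := ⟨hη' x, hη' y⟩
      refine gm_injective _ hxy ?_
      exact ((A.left.presheaf.germ_res_apply _ _ hxy (a x)).trans (ha x)).trans
        ((A.left.presheaf.germ_res_apply _ _ hxy (a y)).trans (ha y)).symm
  obtain ⟨x₀⟩ : Nonempty U := ⟨⟨_, hη⟩⟩
  refine ⟨s, ?_⟩
  rw [← ha x₀, ← hs x₀]
  exact (A.left.presheaf.germ_res_apply (homOfLE inf_le_right) _ (hη' x₀) s).symm

/-- Affine charts of a divisor. -/
structure Chart (A : Over (Spec (CommRingCat.of k))) [IsIntegral A.left] (ι : Type u) where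
  U : ι → A.left.Opens
  y : ι → A.left.functionField
  i0 : ι
  y0 : y i0 = 1
  ne : ∀ i, y i ≠ 0
  hη : ∀ i, genericPoint A.left ∈ U i
  haff : ∀ i, IsAffineOpen (U i)
  cover : ∀ x : A.left, ∃ i, x ∈ U i
  a : ∀ i, ι → Γ(A.left, U i)
  ha : ∀ i j, gm (U i) (hη i) (a i j) = y j / y i
  hbasic : ∀ i j, A.left.basicOpen (a i j) = U i ⊓ U j

variable {ι : Type u}

/-- The system of subalgebras of a chart. -/
def Chart.sys (C : Chart A ι) : Sys k A.left.functionField ι where
  R i := sect A (C.U i)
  y := C.y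
  i0 := C.i0
  y0 := C.y0
  ne := C.ne
  div_mem i j := C.ha i j ▸ gm_mem_sect (C.hη i) (C.a i j)
  overlap i j r hr := by
    have hW : genericPoint A.left ∈ A.left.basicOpen (C.a i j) := by
      rw [C.hbasic]; exact ⟨C.hη i, C.hη j⟩
    obtain ⟨b, hb⟩ := sect_mono (show A.left.basicOpen (C.a i j) ≤ C.U j by
      rw [C.hbasic]; exact inf_le_right) hr hW
    have := (C.haff i).isLocalization_basicOpen (C.a i j)
    obtain ⟨e, n, he⟩ := IsLocalization.Away.surj (C.a i j) b
    refine ⟨e, (mem_sect (C.hη i)).2 ⟨n, ?_⟩⟩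
    have h2 := congrArg (gm _ hW) he
    rw [map_mul, map_pow, hb] at h2
    rw [← C.ha i j]
    have h3 : ∀ z : Γ(A.left, C.U i), gm _ hW (algebraMap Γ(A.left, C.U i) Γ(A.left, A.left.basicOpen (C.a i j)) z) =
        gm (C.U i) (C.hη i) z := fun z => gm_res (A.left.basicOpen_le _) hW z
    rw [h3, h3] at h2
    exact h2.symm

theorem fg_sect [LocallyOfFiniteType A.hom] {U : A.left.Opens} (hU : IsAffineOpen U)
    (h : genericPoint A.left ∈ U) : (sect A U).FG := by
  let φ : k →+* Γ(A.left, U) :=
    (A.hom.appLE ⊤ U le_top).hom.comp (Scheme.ΓSpecIso (CommRingCat.of k)).inv.hom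
  have hft : φ.FiniteType := (A.hom.finiteType_appLE (isAffineOpen_top _) hU le_top).comp
    (RingHom.FiniteType.of_surjective _
      (ConcreteCategory.bijective_of_isIso (Scheme.ΓSpecIso (CommRingCat.of k)).inv).2)
  have hφ : ∀ c, gm U h (φ c) = algebraMap k A.left.functionField c := fun c => by
    show gm U h (A.hom.appLE ⊤ U le_top ((Scheme.ΓSpecIso (CommRingCat.of k)).inv c)) = _
    rw [Scheme.Hom.appLE]
    exact gm_res le_top h _
  letI := φ.toAlgebra
  let γ : Γ(A.left, U) →ₐ[k] A.left.functionField := { gm U h with commutes' := hφ }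
  have hr : sect A U = γ.range := SetLike.ext fun f => (mem_sect h).trans Iff.rfl
  rw [hr, ← Algebra.map_top]
  exact Subalgebra.FG.map γ (show Algebra.FiniteType k Γ(A.left, U) from hft).out

theorem frac_sect {U : A.left.Opens} (hU : IsAffineOpen U) (h : genericPoint A.left ∈ U)
    (f : A.left.functionField) : ∃ a ∈ sect A U, ∃ b ∈ sect A U, b ≠ 0 ∧ f = a / b := by
  haveI : Nonempty U := ⟨⟨_, h⟩⟩
  haveI := functionField_isFractionRing_of_isAffineOpen A.left U hU
  obtain ⟨a, b, hb, hab⟩ := IsFractionRing.div_surjective (A := Γ(A.left, U)) f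
  refine ⟨gm U h a, gm_mem_sect h a, gm U h b, gm_mem_sect h b, ?_, hab.symm⟩
  exact (map_ne_zero_iff _ (gm_injective U h)).2 (nonZeroDivisors.ne_zero hb)

theorem dim_sect [LocallyOfFiniteType A.hom] {U : A.left.Opens} (hU : IsAffineOpen U)
    (h : genericPoint A.left ∈ U) {g : ℕ} (hg : topologicalKrullDim A.left = g) :
    ringKrullDim (sect A U) = g := by
  have hr : ringKrullDim Γ(A.left, U) = g := by
    rw [← PrimeSpectrum.topologicalKrullDim_eq_ringKrullDim, ← hg]
    have h1 : topologicalKrullDim (U : Set A.left) = topologicalKrullDim (PrimeSpectrum Γ(A.left, U)) :=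
      hU.isoSpec.hom.homeomorph.isHomeomorph.topologicalKrullDim_eq _
    rw [← h1, VarDim.topologicalKrullDim_opens_eq_iSup_deg A.hom, VarDim.topologicalKrullDim_eq_deg_genericPoint A.hom]
    refine le_antisymm (iSup_le fun z => ?_) (le_iSup_of_le ⟨_, h⟩ le_rfl)
    exact_mod_cast VarDim.deg_le_of_specializes A.hom (genericPoint_specializes z.1)
  rw [← hr]
  refine (ringKrullDim_eq_of_ringEquiv (RingEquiv.ofBijective
    ((gm U h).codRestrict (sect A U) fun a => gm_mem_sect h a) ⟨fun a b hab => gm_injective U h (congrArg Subtype.val hab), ?_⟩)).symm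
  rintro ⟨f, hf⟩
  obtain ⟨a, ha⟩ := hf h
  exact ⟨a, Subtype.ext ha⟩

/-- Properness: every valuation ring of the function field contains some chart. -/
theorem exists_sect_le [IsProper A.hom] {ι : Type*} (U : ι → A.left.Opens) (haff : ∀ i, IsAffineOpen (U i))
    (cover : ∀ x, ∃ i, x ∈ U i) (O : ValuationSubring A.left.functionField)
    (hO : ∀ c : k, algebraMap k A.left.functionField c ∈ O) : ∃ i, ∀ r ∈ sect A (U i), r ∈ O := by
  let K := A.left.functionField
  let j : k →+* O := (algebraMap k K).codRestrict O.toSubring hO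
  have hex : ValuativeCriterion.Existence A.hom := by
    have h := (inferInstance : UniversallyClosed A.hom)
    rw [UniversallyClosed.eq_valuativeCriterion] at h
    exact h.1
  have hη : A.left.fromSpecStalk (genericPoint A.left) ≫ A.hom =
      Spec.map (CommRingCat.ofHom (algebraMap k K)) := by
    refine ext_of_isAffine ?_
    rw [Scheme.Hom.comp_appTop, Scheme.fromSpecStalk_appTop]
    show _ = _
    rw [← cancel_mono (Scheme.ΓSpecIso (A.left.presheaf.stalk (genericPoint A.left))).hom,
      Scheme.ΓSpecIso_naturality]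
    ext c
    simp [RingHom.algebraMap_toAlgebra, ffAlgebra]
  obtain ⟨l, hl₁, hl₂⟩ := (hex ⟨O, K, A.left.fromSpecStalk (genericPoint A.left),
    Spec.map (CommRingCat.ofHom j), ⟨by rw [hη, ← Spec.map_comp]; rfl⟩⟩).exists_lift.some
  obtain ⟨i, hi⟩ := cover (l (IsLocalRing.closedPoint O))
  refine ⟨i, fun r hr => ?_⟩
  have hrange : Set.range l ⊆ Set.range (haff i).fromSpec := by
    rw [(haff i).range_fromSpec]
    rintro - ⟨z, rfl⟩
    exact ((IsLocalRing.specializes_closedPoint z).map l.continuous).mem_open (U i).isOpen hi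
  let l' := IsOpenImmersion.lift (haff i).fromSpec l hrange
  obtain ⟨ψ, hψ⟩ : ∃ ψ, Spec.map ψ = l' := Spec.map_surjective l'
  have hηi : genericPoint A.left ∈ U i := eta_mem A hi
  have h1 : ψ ≫ CommRingCat.ofHom (algebraMap O K) = A.left.presheaf.germ (U i) _ hηi := by
    refine Spec.map_injective ((cancel_mono (haff i).fromSpec).1 ?_)
    rw [Spec.map_comp, Category.assoc, hψ, IsOpenImmersion.lift_fac]
    exact hl₁.trans ((haff i).fromSpecStalk_eq_fromSpecStalk hηi).symm
  obtain ⟨a, rfl⟩ := hr hηi
  rw [show gm (U i) hηi a = ((ψ a : O) : K) from (ConcreteCategory.congr_hom h1 a).symm]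
  exact (ψ a).2

theorem Chart.good [IsProper A.hom] (C : Chart A ι) {g : ℕ} (hg : topologicalKrullDim A.left = g) :
    C.sys.Good g where
  fg := fg_sect (C.haff _) (C.hη _)
  val O hO := exists_sect_le C.U C.haff C.cover O hO
  frac := frac_sect (C.haff _) (C.hη _)
  dim := dim_sect (C.haff _) (C.hη _) hg

end Groth.Agent.AVDegLib
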