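import Groth.Agent.AVDegLib.Growth
import Mathlib.LinearAlgebra.Basis.VectorSpace
import Mathlib.RingTheory.Algebraic.Integral
import Mathlib.Algebra.Order.Archimedean.Basic

/-!
The degree of an extension of function fields from the growth of pulled back divisors.
-/

set_option linter.style.haveILetI false
set_option autoImplicit false
set_option maxHeartbeats 1000000

universe u

namespace Groth.Agent.AVDegLib

/-- A natural number whose powers are bounded by those of another is at most that number. -/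
theorem le_of_pow_le {a b C : ℕ} (h : ∀ k, a ^ k ≤ C * b ^ k) : a ≤ b := by
  by_contra hab
  push_neg at hab
  rcases Nat.eq_zero_or_pos b with rfl | hb
  · have := h 1; simp at this; omega
  · have hb' : (0 : ℚ) < b := by exact_mod_cast hb
    obtain ⟨k, hk⟩ := pow_unbounded_of_one_lt (C : ℚ) (y := (a : ℚ) / b) ((one_lt_div hb').2 (by exact_mod_cast hab))
    rw [div_pow, lt_div_iff₀ (pow_pos hb' k)] at hk
    exact absurd (h k) (by exact_mod_cast not_le.2 hk)

/-- A scaling rule for a function of growth `m ^ g` pins down the factor. -/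
theorem eq_pow_of_growth {h : ℕ → ℕ} {g n d E e c C : ℕ} (hn : 2 ≤ n) (hmono : Monotone h) (hc : 0 < c)
    (hlo : ∀ m, (m + 1) ^ g ≤ h (c * m)) (hup : ∀ m, h m ≤ C * (m + 1) ^ g)
    (h1 : ∀ M, h (n * M) ≤ d * h (M + E)) (h2 : ∀ M, d * h M ≤ h (n * (M + e))) : d = n ^ g := by
  apply le_antisymm
  · -- iterate the lower inequality
    have key : ∀ k, ∃ N, N + 2 * e ≤ n ^ k * (2 * e) ∧ d ^ k * h 0 ≤ h N := fun k => by
      induction k with
      | zero => exact ⟨0, by simp, by simp⟩
      | succ k ih =>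
        obtain ⟨N, hN, hd⟩ := ih
        refine ⟨n * (N + e), ?_, ?_⟩
        · rw [pow_succ', mul_assoc]
          nlinarith [Nat.mul_le_mul_left n hN]
        · rw [pow_succ', mul_assoc]
          exact (Nat.mul_le_mul_left d hd).trans (h2 N)
    have h0 : 1 ≤ h 0 := by simpa using hlo 0
    refine le_of_pow_le (C := C * (2 * e + 1) ^ g) fun k => ?_
    obtain ⟨N, hN, hd⟩ := key k
    calc d ^ k ≤ d ^ k * h 0 := Nat.le_mul_of_pos_right _ h0
      _ ≤ h N := hd
      _ ≤ C * (N + 1) ^ g := hup N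
      _ ≤ C * ((2 * e + 1) * n ^ k) ^ g := by
        refine Nat.mul_le_mul_left C (Nat.pow_le_pow_left ?_ g)
        have : 1 ≤ n ^ k := Nat.one_le_pow _ _ (by omega)
        nlinarith
      _ = C * (2 * e + 1) ^ g * (n ^ g) ^ k := by rw [mul_pow, ← pow_mul, ← pow_mul, mul_comm k g, mul_assoc]
  · -- iterate the upper inequality
    have key : ∀ k, ∃ N, n ^ k + 2 * E ≤ N ∧ h N ≤ d ^ k * h (2 * E + 1) := fun k => by
      induction k with
      | zero => exact ⟨2 * E + 1, by simp [add_comm], by simp⟩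
      | succ k ih =>
        obtain ⟨N, hN, hd⟩ := ih
        refine ⟨n * (N - E), ?_, ?_⟩
        · have h3 : n ^ k + E ≤ N - E := by omega
          rw [pow_succ']
          nlinarith [Nat.mul_le_mul_left n h3]
        · rw [pow_succ', mul_assoc]
          refine (h1 (N - E)).trans (Nat.mul_le_mul_left d ?_)
          rw [Nat.sub_add_cancel (by omega)]
          exact hd
    refine le_of_pow_le (C := c ^ g * h (2 * E + 1)) fun k => ?_
    obtain ⟨N, hN, hd⟩ := key k
    calc (n ^ g) ^ k = (n ^ k) ^ g := by rw [← pow_mul, ← pow_mul, mul_comm]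
      _ ≤ (c * (n ^ k / c + 1)) ^ g := Nat.pow_le_pow_left (Nat.lt_mul_div_succ _ hc).le g
      _ = c ^ g * (n ^ k / c + 1) ^ g := mul_pow _ _ _
      _ ≤ c ^ g * h N := Nat.mul_le_mul_left _ ((hlo _).trans (hmono ((Nat.mul_div_le _ _).trans (by omega))))
      _ ≤ c ^ g * (d ^ k * h (2 * E + 1)) := Nat.mul_le_mul_left _ hd
      _ = c ^ g * h (2 * E + 1) * d ^ k := by ring

namespace Sys

variable {k K K' : Type u} [Field k] [Field K] [Field K'] [Algebra k K] [Algebra k K'] [Algebra K K']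
  [IsScalarTower k K K'] [FiniteDimensional K K'] {ι : Type u} [Finite ι]

variable (S : Sys k K ι) (S' : Sys k K' ι) (hi0 : S'.i0 = S.i0) (hy : ∀ i, S'.y i = algebraMap K K' (S.y i))
  (hR : ∀ i, ∀ r ∈ S.R i, algebraMap K K' r ∈ S'.R i)
  (hfin : ∀ i, ∃ s : Finset K', ↑s ⊆ (S'.R i : Set K') ∧
    ∀ x ∈ S'.R i, ∃ c : K' → K, (∀ β ∈ s, c β ∈ S.R i) ∧ ∑ β ∈ s, c β • β = x)
  (hfrac : ∀ f : K, ∃ a ∈ S.R S.i0, ∃ b ∈ S.R S.i0, b ≠ 0 ∧ f = a / b)
  (hfrac' : ∀ f : K', ∃ a ∈ S'.R S'.i0, ∃ b ∈ S'.R S'.i0, b ≠ 0 ∧ f = a / b)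

include hfrac' in
omit [IsScalarTower k K K'] [Finite ι] in
/-- The base chart upstairs spans the extension. -/
theorem span_base_eq_top : Submodule.span K ((S'.R S'.i0 : Subalgebra k K') : Set K') = ⊤ := by
  let P : Subalgebra K K' := Algebra.adjoin K ((S'.R S'.i0 : Subalgebra k K') : Set K')
  have hP : Submodule.span K ((S'.R S'.i0 : Subalgebra k K') : Set K') = Subalgebra.toSubmodule P := by
    rw [Algebra.adjoin_eq_span,
      show ((S'.R S'.i0 : Subalgebra k K') : Set K') = ((S'.R S'.i0).toSubmonoid : Set K') from rfl,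
      Submonoid.closure_eq]
  rw [hP, eq_top_iff]
  intro f _
  obtain ⟨a, ha, b, hb, -, rfl⟩ := hfrac' f
  rw [div_eq_mul_inv]
  exact P.mul_mem (Algebra.subset_adjoin ha)
    (P.inv_mem_of_algebraic (x := ⟨b, Algebra.subset_adjoin hb⟩) (Algebra.IsAlgebraic.isAlgebraic b))

include hi0 hy hR hfrac' in
/-- `d · h(M) ≤ h'(M + e)`. -/
theorem exists_ge (hfd' : ∀ M, FiniteDimensional k (S'.F M)) :
    ∃ e, ∀ M, Module.finrank K K' * S.h M ≤ S'.h (M + e) := by
  classical
  obtain ⟨t, hts, htspan, htli⟩ := exists_linearIndependent K ((S'.R S'.i0 : Subalgebra k K') : Set K')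
  rw [S'.span_base_eq_top hfrac'] at htspan
  let b := Module.Basis.mk htli (by rw [Subtype.range_coe, htspan])
  haveI : Fintype t := FiniteDimensional.fintypeBasisIndex b
  obtain ⟨e, he⟩ := S'.exists_mem_F_finset (Finset.univ.image fun l : t => (l : K')) fun r hr => by
    obtain ⟨l, -, rfl⟩ := Finset.mem_image.1 hr
    exact hts l.2
  refine ⟨e, fun M => ?_⟩
  haveI := hfd' (M + e)
  have hmem : ∀ v : t → S.F M, ∑ l, algebraMap K K' (v l : K) * (l : K') ∈ S'.F (M + e) := fun v => by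
    refine Submodule.sum_mem _ fun l _ => S'.mul_mem_F (fun i => ?_) (he _ (Finset.mem_image.2 ⟨l, Finset.mem_univ l, rfl⟩))
    rw [hy, ← map_pow, ← map_div₀]
    exact hR i _ ((v l).2 i)
  let Ψ : (t → S.F M) →ₗ[k] S'.F (M + e) :=
    LinearMap.codRestrict _ (∑ l : t, ((LinearMap.mulRight k (l : K')).comp
      ((IsScalarTower.toAlgHom k K K').toLinearMap.comp (S.F M).subtype)).comp (LinearMap.proj l)) fun v => by
      simpa using hmem v
  have hΨ : Function.Injective Ψ := fun v w h => funext fun l => Subtype.ext (by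
    have h' : ∑ l, algebraMap K K' (v l : K) * (l : K') = ∑ l, algebraMap K K' (w l : K) * (l : K') := by
      simpa [Ψ] using congrArg Subtype.val h
    simp only [← Algebra.smul_def] at h'
    exact Fintype.linearIndependent_iffₛ.1 htli (fun l => (v l : K)) (fun l => (w l : K)) h' l)
  by_cases hM : FiniteDimensional k (S.F M)
  · have := LinearMap.finrank_le_finrank_of_injective hΨ
    rwa [Module.finrank_pi_fintype, Finset.sum_const, Finset.card_univ, smul_eq_mul,
      ← Module.finrank_eq_card_basis b] at this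
  · rw [Sys.h, Module.finrank_of_not_finite hM, mul_zero]
    exact Nat.zero_le _

include hi0 hy hfin hfrac in
/-- `h'(M) ≤ d · h(M + E)`. -/
theorem exists_le (hfd : ∀ M, FiniteDimensional k (S.F M)) :
    ∃ E, ∀ M, S'.h M ≤ Module.finrank K K' * S.h (M + E) := by
  classical
  haveI := Fintype.ofFinite ι
  choose s hsR hs using hfin
  let b := Module.finBasis K K'
  choose num hnum den hden hden0 hv using fun q : (s S.i0) × Fin (Module.finrank K K') => hfrac (b.coord q.2 q.1)
  let δ : K := ∏ q, den q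
  have hδ : δ ≠ 0 := Finset.prod_ne_zero_iff.2 fun q _ => hden0 q
  have hbase : ∀ x ∈ S'.R S.i0, ∀ l, δ * b.coord l x ∈ S.R S.i0 := fun x hx l => by
    obtain ⟨c, hc, rfl⟩ := hs S.i0 x hx
    rw [map_sum, Finset.mul_sum]
    refine sum_mem fun β hβ => ?_
    rw [map_smul, smul_eq_mul, mul_left_comm]
    refine mul_mem (hc β hβ) ?_
    rw [hv (⟨β, hβ⟩, l), show δ = (∏ q ∈ Finset.univ.erase (⟨β, hβ⟩, l), den q) * den (⟨β, hβ⟩, l) from
      (Finset.prod_erase_mul _ _ (Finset.mem_univ _)).symm, mul_assoc, mul_div_cancel₀ _ (hden0 _)]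
    exact mul_mem (prod_mem fun q _ => hden q) (hnum _)
  have hgen : ∀ i, ∀ β ∈ s i, ∀ l, ∃ E, δ * b.coord l β / S.y i ^ E ∈ S.R i := fun i β hβ l => by
    obtain ⟨e, he⟩ := S'.overlap S'.i0 i β (hsR i hβ)
    rw [S'.y0, div_one, hi0] at he
    have h1 := hbase _ he l
    rw [hy, ← map_pow, mul_comm β, ← Algebra.smul_def, map_smul, smul_eq_mul] at h1
    obtain ⟨e', he'⟩ := S.overlap i S.i0 _ h1
    refine ⟨e', ?_⟩
    rw [S.y0, one_div, inv_pow, ← div_eq_mul_inv] at he'
    have hr : (S.y i)⁻¹ ^ e * (δ * (S.y i ^ e * b.coord l β) / S.y i ^ e') ∈ S.R i :=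
      mul_mem (pow_mem (S.inv_mem i) e) he'
    have hy0 := pow_ne_zero e (S.ne i)
    rwa [inv_pow, mul_left_comm δ, mul_div_assoc, inv_mul_cancel_left₀ hy0] at hr
  choose E' hE' using hgen
  let E : ℕ := Finset.univ.sup fun i => (s i).attach.sup fun β => Finset.univ.sup fun l => E' i β β.2 l
  refine ⟨E, fun M => ?_⟩
  haveI := hfd (M + E)
  have hmem : ∀ f ∈ S'.F M, ∀ l, δ * b.coord l f ∈ S.F (M + E) := fun f hf l i => by
    obtain ⟨c, hc, hsum⟩ := hs i _ (hf i)
    have hf' : f = S.y i ^ M • ∑ β ∈ s i, c β • β := by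
      rw [hsum, Algebra.smul_def, map_pow, ← hy, mul_div_cancel₀ _ (pow_ne_zero _ (S'.ne i))]
    rw [hf', map_smul, map_sum, smul_eq_mul, Finset.mul_sum, Finset.mul_sum, Finset.sum_div]
    refine sum_mem fun β hβ => ?_
    have hle : E' i β hβ l ≤ E :=
      (Finset.le_sup (f := fun l => E' i β hβ l) (Finset.mem_univ l)).trans
        ((Finset.le_sup (f := fun β : {x // x ∈ s i} => Finset.univ.sup fun l => E' i β β.2 l)
          (Finset.mem_attach _ ⟨β, hβ⟩)).trans
          (Finset.le_sup (f := fun i => (s i).attach.sup fun β => Finset.univ.sup fun l => E' i β β.2 l) (Finset.mem_univ i)))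
    obtain ⟨j, hj⟩ := Nat.exists_eq_add_of_le hle
    rw [map_smul, smul_eq_mul, pow_add, show δ * (S.y i ^ M * (c β * b.coord l β)) / (S.y i ^ M * S.y i ^ E) =
      c β * ((δ * b.coord l β) / S.y i ^ E) by field_simp [S.ne i], hj, pow_add, div_mul_eq_div_div, div_eq_mul_inv _ (S.y i ^ j), ← inv_pow]
    exact mul_mem (hc β hβ) (mul_mem (hE' i β hβ l) (pow_mem (S.inv_mem i) j))
  let Ψ : S'.F M →ₗ[k] (Fin (Module.finrank K K') → S.F (M + E)) :=
    LinearMap.pi fun l => LinearMap.codRestrict _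
      ((LinearMap.mulLeft k δ).comp (((b.coord l).restrictScalars k).comp (S'.F M).subtype)) fun f => hmem f f.2 l
  have hΨ : Function.Injective Ψ := fun f f' h => Subtype.ext (b.ext_elem fun l =>
    mul_left_cancel₀ hδ (congrArg Subtype.val (congrFun h l)))
  refine (LinearMap.finrank_le_finrank_of_injective hΨ).trans ?_
  rw [Module.finrank_pi_fintype, Finset.sum_const, Finset.card_univ, Fintype.card_fin, smul_eq_mul]
  exact le_rfl

include hi0 hy hR hfin hfrac' in
/-- If the pullback of the divisor is equivalent to `n` times it, the degree is `n ^ g`. -/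
theorem degree_eq {g n : ℕ} (hn : 2 ≤ n) (hS : S.Good g) (hn' : ∀ M, Nonempty (S'.F M ≃ₗ[k] S.F (n * M))) :
    Module.finrank K K' = n ^ g := by
  obtain ⟨C, hC⟩ := hS.exists_upper
  obtain ⟨c, hc, hlo⟩ := hS.exists_lower
  have heq : ∀ M, S'.h M = S.h (n * M) := fun M => (hn' M).some.finrank_eq
  haveI : ∀ M, FiniteDimensional k (S.F M) := fun M => (hC M).1
  obtain ⟨e, he⟩ := S.exists_ge S' hi0 hy hR hfrac' fun M => (hn' M).some.symm.finiteDimensional
  obtain ⟨E, hE⟩ := S.exists_le S' hi0 hy hfin hS.frac fun M => (hC M).1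
  refine eq_pow_of_growth (E := E) (e := e) hn ?_ hc hlo (fun m => (hC m).2) (fun M => ?_) fun M => ?_
  · intro a b hab
    exact Submodule.finrank_mono (S.F_mono hab)
  · rw [← heq]; exact hE M
  · rw [← heq]; exact he M

end Sys

end Groth.Agent.AVDegLib
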