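import Groth.Agent.NagataLib.Field
import Groth.Agent.SmoothFormLib.Valuative
import Groth.Agent.VarDim.Basic
import Mathlib.RingTheory.NoetherNormalization
import Mathlib.RingTheory.MvPolynomial.Basic
import Mathlib.RingTheory.KrullDimension.Polynomial

/-!
Growth of the spaces of functions with bounded poles along a divisor, given by charts.
-/

set_option linter.style.haveILetI false
set_option autoImplicit false
set_option maxHeartbeats 1000000

universe u

open Polynomial

namespace Groth.Agent.AVDegLib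

variable (k K : Type u) [Field k] [Field K] [Algebra k K]

/-- Charts of a divisor on a variety with function field `K`: coordinate rings and local equations. -/
structure Sys (ι : Type u) where
  R : ι → Subalgebra k K
  y : ι → K
  i0 : ι
  y0 : y i0 = 1
  ne : ∀ i, y i ≠ 0
  div_mem : ∀ i j, y j / y i ∈ R i
  overlap : ∀ i j, ∀ r ∈ R j, ∃ e : ℕ, r * (y j / y i) ^ e ∈ R i

variable {k K} {ι : Type u}

/-- The hypotheses on the charts of an effective ample divisor on a proper variety of dimension `g`. -/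
structure Sys.Good (S : Sys k K ι) (g : ℕ) : Prop where
  fg : (S.R S.i0).FG
  val : ∀ O : ValuationSubring K, (∀ c : k, algebraMap k K c ∈ O) → ∃ i, ∀ r ∈ S.R i, r ∈ O
  frac : ∀ f : K, ∃ a ∈ S.R S.i0, ∃ b ∈ S.R S.i0, b ≠ 0 ∧ f = a / b
  dim : ringKrullDim (S.R S.i0) = g

namespace Sys

variable (S : Sys k K ι)

/-- Functions with poles bounded by `M` times the divisor. -/
def F (M : ℕ) : Submodule k K where
  carrier := {f | ∀ i, f / S.y i ^ M ∈ S.R i}
  add_mem' := fun {a b} ha hb i => by rw [add_div]; exact add_mem (ha i) (hb i)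
  zero_mem' := fun i => by rw [zero_div]; exact zero_mem _
  smul_mem' := fun c a ha i => by rw [smul_div_assoc]; exact (S.R i).smul_mem (ha i) c

theorem mem_F {M : ℕ} {f : K} : f ∈ S.F M ↔ ∀ i, f / S.y i ^ M ∈ S.R i := Iff.rfl

theorem inv_mem (i : ι) : (S.y i)⁻¹ ∈ S.R i := by
  have := S.div_mem i S.i0
  rwa [S.y0, one_div] at this

theorem F_mono {M N : ℕ} (h : M ≤ N) : S.F M ≤ S.F N := fun f hf i => by
  obtain ⟨j, rfl⟩ := Nat.exists_eq_add_of_le h
  rw [pow_add, div_mul_eq_div_div, div_eq_mul_inv, ← inv_pow]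
  exact mul_mem (hf i) (pow_mem (S.inv_mem i) j)

theorem one_mem_F (M : ℕ) : (1 : K) ∈ S.F M := fun i => by
  rw [one_div, ← inv_pow]
  exact pow_mem (S.inv_mem i) M

theorem mul_mem_F {M N : ℕ} {f g : K} (hf : f ∈ S.F M) (hg : g ∈ S.F N) : f * g ∈ S.F (M + N) := fun i => by
  rw [pow_add, mul_div_mul_comm]
  exact mul_mem (hf i) (hg i)

theorem pow_mem_F {M : ℕ} {f : K} (hf : f ∈ S.F M) : ∀ n, f ^ n ∈ S.F (M * n)
  | 0 => by simpa using S.one_mem_F 0
  | n + 1 => by rw [pow_succ, Nat.mul_succ]; exact S.mul_mem_F (pow_mem_F hf n) hf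

theorem y_mem_F (a : ℕ) (j : ι) : S.y j ^ a ∈ S.F a := fun i => by
  rw [← div_pow]
  exact pow_mem (S.div_mem i j) a

theorem exists_mem_F [Finite ι] {r : K} (hr : r ∈ S.R S.i0) : ∃ e, r ∈ S.F e := by
  classical
  haveI := Fintype.ofFinite ι
  choose e he using fun i => S.overlap i S.i0 r hr
  refine ⟨Finset.univ.sup e, fun i => ?_⟩
  obtain ⟨j, hj⟩ := Nat.exists_eq_add_of_le (Finset.le_sup (f := e) (Finset.mem_univ i))
  have h := he i
  rw [S.y0, one_div] at h
  rw [hj, pow_add, div_eq_mul_inv, mul_inv, ← inv_pow, ← inv_pow, ← mul_assoc]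
  exact mul_mem h (pow_mem (S.inv_mem i) j)

theorem exists_mem_F_finset [Finite ι] (Z : Finset K) (hZ : ∀ r ∈ Z, r ∈ S.R S.i0) :
    ∃ e, ∀ r ∈ Z, r ∈ S.F e := by
  classical
  choose e he using fun r : Z => S.exists_mem_F (hZ r r.2)
  exact ⟨Finset.univ.sup e, fun r hr => S.F_mono (Finset.le_sup (f := e) (Finset.mem_univ ⟨r, hr⟩)) (he ⟨r, hr⟩)⟩

theorem F_le_base (M : ℕ) {f : K} (hf : f ∈ S.F M) : f ∈ S.R S.i0 := by
  have := hf S.i0
  rwa [S.y0, one_pow, div_one] at this

/-- The dimension of the functions with bounded poles. -/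
noncomputable def h (M : ℕ) : ℕ := Module.finrank k (S.F M)

end Sys

section box

variable (k) (g : ℕ)

/-- Polynomials of degree at most `m` in each variable. -/
noncomputable abbrev box (m : ℕ) : Submodule k (MvPolynomial (Fin g) k) :=
  MvPolynomial.restrictSupport k {s : Fin g →₀ ℕ | ∀ i, s i ≤ m}

/-- The exponents in the box. -/
noncomputable def boxEquiv (m : ℕ) : {s : Fin g →₀ ℕ | ∀ i, s i ≤ m} ≃ (Fin g → Fin (m + 1)) where
  toFun s i := ⟨s.1 i, Nat.lt_succ_of_le (s.2 i)⟩
  invFun v := ⟨Finsupp.equivFunOnFinite.symm fun i => (v i : ℕ), fun i => Nat.le_of_lt_succ (v i).2⟩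
  left_inv s := by ext i; simp
  right_inv v := by ext i; simp

theorem box_finite (m : ℕ) : Module.Finite k (box k g m) := by
  haveI := Finite.of_equiv _ (boxEquiv g m).symm
  exact Module.Finite.of_basis (MvPolynomial.basisRestrictSupport k _)

theorem finrank_box (m : ℕ) : Module.finrank k (box k g m) = (m + 1) ^ g := by
  rw [Module.finrank_eq_nat_card_basis (MvPolynomial.basisRestrictSupport k _),
    Nat.card_congr (boxEquiv g m)]
  simp

variable {k g}

theorem mem_box {m : ℕ} {p : MvPolynomial (Fin g) k} : p ∈ box k g m ↔ ∀ s ∈ p.support, ∀ i, s i ≤ m :=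
  MvPolynomial.mem_restrictSupport_iff k

theorem box_mono {a b : ℕ} (h : a ≤ b) : box k g a ≤ box k g b := fun _ hp =>
  mem_box.2 fun s hs i => (mem_box.1 hp s hs i).trans h

theorem mul_mem_box {a b : ℕ} {p q : MvPolynomial (Fin g) k} (hp : p ∈ box k g a) (hq : q ∈ box k g b) :
    p * q ∈ box k g (a + b) := mem_box.2 fun s hs i => by
  classical
  obtain ⟨s₁, h₁, s₂, h₂, rfl⟩ := Finset.mem_add.1 (MvPolynomial.support_mul p q hs)
  exact Nat.add_le_add (mem_box.1 hp _ h₁ i) (mem_box.1 hq _ h₂ i)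

theorem exists_mem_box (Z : Finset (MvPolynomial (Fin g) k)) : ∃ D, ∀ p ∈ Z, p ∈ box k g D :=
  ⟨Z.sup fun p => p.totalDegree, fun p hp => mem_box.2 fun s hs i =>
    ((Finsupp.le_degree i s).trans (MvPolynomial.le_totalDegree hs)).trans
      (Finset.le_sup (f := fun p : MvPolynomial (Fin g) k => p.totalDegree) hp)⟩

theorem one_mem_box (D : ℕ) : (1 : MvPolynomial (Fin g) k) ∈ box k g D := mem_box.2 fun s hs i => by
  classical
  rw [Finset.mem_singleton.1 (MvPolynomial.support_one.subset hs)]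
  exact Nat.zero_le _

end box

section noether

variable {g : ℕ}

theorem exists_noether (R : Subalgebra k K) (hfg : R.FG) (hd : ringKrullDim R = g) :
    ∃ (γ : MvPolynomial (Fin g) k →ₐ[k] R), Function.Injective γ ∧ γ.Finite := by
  haveI : Algebra.FiniteType k R := ⟨(Subalgebra.fg_top R).2 hfg⟩
  obtain ⟨s, γ, hinj, hfin⟩ := exists_finite_inj_algHom_of_fg k R
  letI := γ.toRingHom.toAlgebra
  haveI : Module.Finite (MvPolynomial (Fin s) k) R := hfin
  haveI : Algebra.IsIntegral (MvPolynomial (Fin s) k) R := Algebra.IsIntegral.of_finite _ _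
  haveI : FaithfulSMul (MvPolynomial (Fin s) k) R := (faithfulSMul_iff_algebraMap_injective _ _).2 hinj
  have h := VarDim.ringKrullDim_eq_of_isIntegral (R := MvPolynomial (Fin s) k) (S := R)
  rw [hd, MvPolynomial.ringKrullDim_of_isNoetherianRing, ringKrullDim_eq_zero_of_field, zero_add,
    Nat.card_eq_fintype_card, Fintype.card_fin] at h
  obtain rfl : s = g := by exact_mod_cast h.symm
  exact ⟨γ, hinj, hfin⟩

/-- The powers of a finite-dimensional space of functions grow at most like `m ^ g`. -/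
theorem exists_pow_bound (R : Subalgebra k K) (hfg : R.FG) (hd : ringKrullDim R = g) (W : Finset K)
    (hW : ∀ w ∈ W, w ∈ R) :
    ∃ C, ∀ m, FiniteDimensional k (Submodule.span k (W : Set K) ^ m : Submodule k K) ∧
      Module.finrank k (Submodule.span k (W : Set K) ^ m : Submodule k K) ≤ C * (m + 1) ^ g := by
  classical
  obtain ⟨γ, hinj, hfin⟩ := exists_noether R hfg hd
  letI := γ.toRingHom.toAlgebra
  haveI : Module.Finite (MvPolynomial (Fin g) k) R := hfin
  obtain ⟨r, b, hb⟩ := Module.Finite.exists_fin (R := MvPolynomial (Fin g) k) (M := R)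
  have hsp : ∀ x : R, ∃ c : Fin r → MvPolynomial (Fin g) k, ∑ l, γ (c l) * b l = x := fun x => by
    obtain ⟨c, hc⟩ := (Submodule.mem_span_range_iff_exists_fun _).1 (hb ▸ Submodule.mem_top (x := x))
    exact ⟨c, hc⟩
  obtain ⟨c1, hc1⟩ := hsp 1
  choose c hc using fun w : W => fun l => hsp (⟨w, hW w w.2⟩ * b l)
  obtain ⟨D, hD⟩ := exists_mem_box
    (Finset.univ.image c1 ∪ Finset.univ.image fun q : W × Fin r × Fin r => c q.1 q.2.1 q.2.2)
  let Φ : ℕ → ((Fin r → MvPolynomial (Fin g) k) →ₗ[k] K) := fun _ =>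
    ∑ l, ((LinearMap.mulRight k ((b l : R) : K)).comp ((R.val.comp γ).toLinearMap)).comp (LinearMap.proj l)
  have hΦ : ∀ m v, Φ m v = ∑ l, (γ (v l) : K) * (b l : K) := fun m v => by
    simp [Φ]
  let T : ℕ → Submodule k K := fun m =>
    LinearMap.range ((Φ m).comp (LinearMap.pi fun l => (box k g m).subtype.comp (LinearMap.proj l)))
  have hmem : ∀ m x, x ∈ T m ↔ ∃ v : Fin r → MvPolynomial (Fin g) k, (∀ l, v l ∈ box k g m) ∧
      ∑ l, (γ (v l) : K) * (b l : K) = x := fun m x => by
    constructor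
    · rintro ⟨v, rfl⟩
      exact ⟨fun l => v l, fun l => (v l).2, (hΦ m _).symm⟩
    · rintro ⟨v, hv, rfl⟩
      exact ⟨fun l => ⟨v l, hv l⟩, hΦ m _⟩
  have key : ∀ m, (Submodule.span k (W : Set K) ^ m : Submodule k K) ≤ T ((m + 1) * D) := fun m => by
    induction m with
    | zero =>
      rw [pow_zero, Submodule.one_eq_span, Submodule.span_le, Set.singleton_subset_iff, SetLike.mem_coe, hmem]
      refine ⟨c1, fun l => by simpa using hD (c1 l) (by simp), ?_⟩
      simpa using congrArg (fun z : R => (z : K)) hc1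
    | succ m ih =>
      rw [pow_succ', Submodule.mul_le]
      intro w hw x hx
      obtain ⟨v, hv, rfl⟩ := (hmem _ _).1 (ih hx)
      induction hw using Submodule.span_induction with
      | mem w hw =>
        rw [hmem]
        refine ⟨fun j => ∑ l, v l * c ⟨w, hw⟩ l j, fun j => Submodule.sum_mem _ fun l _ => ?_, ?_⟩
        · rw [show (m + 1 + 1) * D = (m + 1) * D + D by ring]
          exact mul_mem_box (hv l) (hD _ (Finset.mem_union_right _ (Finset.mem_image.2 ⟨(⟨w, hw⟩, l, j), by simp, rfl⟩)))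
        · have h : ∀ l, ((w : K) * (b l : K)) = ∑ j, (γ (c ⟨w, hw⟩ l j) : K) * (b j : K) := fun l => by
            simpa using congrArg (fun z : R => (z : K)) (hc ⟨w, hw⟩ l).symm
          simp only [map_sum, map_mul, AddSubmonoidClass.coe_finsetSum, MulMemClass.coe_mul, Finset.sum_mul, Finset.mul_sum]
          rw [Finset.sum_comm]
          refine Finset.sum_congr rfl fun l _ => ?_
          rw [mul_left_comm, h l, Finset.mul_sum]
          exact Finset.sum_congr rfl fun j _ => mul_assoc _ _ _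
      | zero => simp
      | add a a' _ _ ha ha' => rw [add_mul a a']; exact Submodule.add_mem _ ha ha'
      | smul t a _ ha => rw [smul_mul_assoc]; exact (T _).smul_mem t ha
  refine ⟨r * (D + 1) ^ g, fun m => ?_⟩
  haveI := box_finite k g ((m + 1) * D)
  haveI : FiniteDimensional k (T ((m + 1) * D)) := by infer_instance
  refine ⟨Submodule.finiteDimensional_of_le (key m), (Submodule.finrank_mono (key m)).trans ?_⟩
  refine (LinearMap.finrank_range_le _).trans ?_
  rw [Module.finrank_pi_fintype, Finset.sum_const, Finset.card_univ, Fintype.card_fin, finrank_box, smul_eq_mul,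
    mul_assoc, ← mul_pow]
  exact Nat.mul_le_mul_left r (Nat.pow_le_pow_left (by nlinarith) g)

end noether

section conductor

/-- The integral closure of a finitely generated subalgebra in its fraction field has bounded denominators. -/
theorem exists_conductor {P L : Type u} [CommRing P] [Algebra k P] [Field L] [Algebra P L]
    (A0 : Subalgebra k P) [Algebra.FiniteType k A0] [IsDomain A0] (hinj : Function.Injective (algebraMap A0 L))
    (hgen : ∀ z : L, ∃ p q : A0, q ≠ 0 ∧ algebraMap A0 L q * z = algebraMap A0 L p) :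
    ∃ δ : A0, δ ≠ 0 ∧ ∀ z : L, (algebraMap A0 L).IsIntegralElem z →
      ∃ p : A0, algebraMap A0 L δ * z = algebraMap A0 L p := by
  classical
  let Q := FractionRing A0
  let ι₁ : Q →+* L := IsFractionRing.lift hinj
  have hι₁ : ∀ x : A0, ι₁ (algebraMap A0 Q x) = algebraMap A0 L x := fun x => IsFractionRing.lift_algebraMap hinj x
  have hsurj : Function.Surjective ι₁ := fun z => by
    obtain ⟨p, q, hq, h⟩ := hgen z
    refine ⟨algebraMap A0 Q p / algebraMap A0 Q q, ?_⟩
    rw [map_div₀, hι₁, hι₁, ← h, mul_div_assoc, mul_comm, div_mul_cancel₀]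
    exact (map_ne_zero_iff _ hinj).2 hq
  letI : Algebra Q L := ι₁.toAlgebra
  haveI : IsScalarTower A0 Q L := IsScalarTower.of_algebraMap_eq fun x => (hι₁ x).symm
  haveI : Module.Finite Q L := RingHom.Finite.of_surjective ι₁ hsurj
  haveI : Module.Finite A0 (integralClosure A0 L) := NagataLib.isN2_of_finiteType k A0 L inferInstance
  obtain ⟨r, w, hw⟩ := Module.Finite.exists_fin (R := A0) (M := integralClosure A0 L)
  choose num den hden0 hnum using fun l => hgen (w l : L)
  refine ⟨∏ l, den l, Finset.prod_ne_zero_iff.2 fun l _ => hden0 l, fun z hz => ?_⟩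
  have hz : (⟨z, hz⟩ : integralClosure A0 L) ∈ Submodule.span A0 (Set.range w) := hw ▸ Submodule.mem_top
  obtain ⟨c, hc⟩ := (Submodule.mem_span_range_iff_exists_fun _).1 hz
  refine ⟨∑ l, c l * ((∏ j ∈ Finset.univ.erase l, den j) * num l), ?_⟩
  rw [show z = ((∑ l, c l • w l : integralClosure A0 L) : L) from congrArg Subtype.val hc.symm]
  rw [AddSubmonoidClass.coe_finsetSum, Finset.mul_sum, map_sum]
  refine Finset.sum_congr rfl fun l _ => ?_
  rw [Subalgebra.coe_smul, Algebra.smul_def, map_mul, map_mul, ← hnum,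
    ← Finset.prod_erase_mul _ _ (Finset.mem_univ l), map_mul]
  ring

end conductor

namespace Sys.Good

variable [Finite ι] {S : Sys k K ι} {g : ℕ}

/-- Upper bound: `h(M) = O(M ^ g)`. -/
theorem exists_upper (hS : S.Good g) :
    ∃ C, ∀ M, FiniteDimensional k (S.F M) ∧ S.h M ≤ C * (M + 1) ^ g := by
  classical
  haveI := Fintype.ofFinite ι
  obtain ⟨Z, hZ⟩ := hS.fg
  have hZR : ∀ z ∈ Z, z ∈ S.R S.i0 := fun z hz => hZ ▸ Algebra.subset_adjoin hz
  obtain ⟨e, he⟩ := S.exists_mem_F_finset Z hZR
  let a := e + 1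
  let W : Finset K := Z ∪ Finset.univ.image fun i => S.y i ^ a
  have hWy : ∀ i, S.y i ^ a ∈ W := fun i =>
    Finset.mem_union_right _ (Finset.mem_image.2 ⟨i, Finset.mem_univ i, rfl⟩)
  have hWF : ∀ w ∈ W, w ∈ S.F a := fun w hw => by
    rcases Finset.mem_union.1 hw with h | h
    · exact S.F_mono (Nat.le_succ e) (he w h)
    · obtain ⟨i, -, rfl⟩ := Finset.mem_image.1 h
      exact S.y_mem_F a i
  obtain ⟨C, hC⟩ := exists_pow_bound (S.R S.i0) hS.fg hS.dim W fun w hw => S.F_le_base a (hWF w hw)
  let V : Submodule k K := Submodule.span k (W : Set K)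
  let A0 : Subalgebra k K[X] := Algebra.adjoin k ((fun w => Polynomial.C w * Polynomial.X) '' (W : Set K))
  have hgen : ∀ w ∈ W, Polynomial.C w * Polynomial.X ∈ A0 := fun w hw =>
    Algebra.subset_adjoin ⟨w, hw, rfl⟩
  haveI : Algebra.FiniteType k A0 :=
    ⟨(Subalgebra.fg_top A0).2 ((Subalgebra.fg_def).2 ⟨_, W.finite_toSet.image _, rfl⟩)⟩
  have hcoeff : ∀ p ∈ A0, ∀ m, p.coeff m ∈ V ^ m := fun p hp => by
    induction hp using Algebra.adjoin_induction with
    | mem x hx =>
      obtain ⟨w, hw, rfl⟩ := hx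
      intro m
      rw [Polynomial.coeff_C_mul_X]
      split_ifs with h
      · rw [h, pow_one]; exact Submodule.subset_span hw
      · exact zero_mem _
    | algebraMap c =>
      intro m
      rw [show algebraMap k K[X] c = Polynomial.C (algebraMap k K c) from rfl, Polynomial.coeff_C]
      split_ifs with h
      · rw [h, pow_zero, Algebra.algebraMap_eq_smul_one]
        exact Submodule.smul_mem _ c (Submodule.one_le.1 le_rfl)
      · exact zero_mem _
    | add x y _ _ hx hy => intro m; rw [Polynomial.coeff_add]; exact add_mem (hx m) (hy m)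
    | mul x y _ _ hx hy =>
      intro m
      rw [Polynomial.coeff_mul]
      refine Submodule.sum_mem _ fun q hq => ?_
      rw [← Finset.HasAntidiagonal.mem_antidiagonal.1 hq, pow_add]
      exact Submodule.mul_mem_mul (hx _) (hy _)
  obtain ⟨L, _, _, _⟩ : ∃ (L : Type u) (_ : Field L) (_ : Algebra K[X] L), IsFractionRing K[X] L :=
    ⟨FractionRing K[X], inferInstance, inferInstance, inferInstance⟩
  have hval' : ∀ x : A0, algebraMap A0 L x = algebraMap K[X] L (x : K[X]) := fun x => rfl
  have hA0inj : Function.Injective (algebraMap A0 L) := fun x y h =>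
    Subtype.ext (IsFractionRing.injective K[X] L (by rwa [hval', hval'] at h))
  let E : Subfield L := Subfield.closure (Set.range (algebraMap A0 L))
  let cK : K →+* L := (algebraMap K[X] L).comp Polynomial.C
  let X' : L := algebraMap K[X] L Polynomial.X
  have hWE : ∀ w ∈ W, cK w * X' ∈ E := fun w hw => Subfield.subset_closure
    ⟨⟨_, hgen w hw⟩, (hval' _).trans (map_mul _ _ _)⟩
  have hXE : X' ∈ E := by
    have := hWE _ (hWy S.i0)
    rwa [S.y0, one_pow, map_one, one_mul] at this
  have hX0 : X' ≠ 0 := fun h => Polynomial.X_ne_zero ((IsFractionRing.injective K[X] L) (h.trans (map_zero _).symm))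
  have hR0E : ∀ r ∈ S.R S.i0, cK r ∈ E := fun r hr => by
    rw [← hZ] at hr
    induction hr using Algebra.adjoin_induction with
    | mem z hz =>
      have := E.div_mem (hWE z (Finset.mem_union_left _ hz)) hXE
      rwa [mul_div_assoc, div_self hX0, mul_one] at this
    | algebraMap c => exact Subfield.subset_closure ⟨algebraMap k A0 c, hval' _⟩
    | add x y _ _ hx hy => rw [map_add]; exact add_mem hx hy
    | mul x y _ _ hx hy => rw [map_mul]; exact mul_mem hx hy
  have hKE : ∀ f, cK f ∈ E := fun f => by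
    obtain ⟨p, hp, q, hq, -, rfl⟩ := hS.frac f
    rw [map_div₀]
    exact E.div_mem (hR0E p hp) (hR0E q hq)
  have hPE : ∀ p : K[X], algebraMap K[X] L p ∈ E := fun p => by
    induction p using Polynomial.induction_on' with
    | add p q hp hq => rw [map_add]; exact add_mem hp hq
    | monomial n a =>
      rw [← Polynomial.C_mul_X_pow_eq_monomial, map_mul, map_pow]
      exact mul_mem (hKE a) (pow_mem hXE n)
  have hgenL : ∀ z : L, ∃ p q : A0, q ≠ 0 ∧ algebraMap A0 L q * z = algebraMap A0 L p := fun z => by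
    have hz : z ∈ E := by
      obtain ⟨p, q, -, rfl⟩ := IsFractionRing.div_surjective (A := K[X]) z
      exact E.div_mem (hPE p) (hPE q)
    obtain ⟨x, hx, y, hy, rfl⟩ := Subfield.mem_closure_iff.1 hz
    rw [← RingHom.coe_range, Subring.closure_eq] at hx hy
    obtain ⟨⟨p, rfl⟩, q, rfl⟩ := RingHom.mem_range.1 hx, RingHom.mem_range.1 hy
    by_cases hq : q = 0
    · exact ⟨0, 1, one_ne_zero, by simp [hq]⟩
    · exact ⟨p, q, hq, mul_div_cancel₀ _ ((map_ne_zero_iff _ hA0inj).2 hq)⟩
  obtain ⟨δ, hδ, hδz⟩ := exists_conductor A0 hA0inj hgenL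
  let d : K[X] := (δ : K[X])
  have hd : d ≠ 0 := fun h => hδ (Subtype.ext h)
  let j := d.natDegree
  have hFW : ∀ M f, f ∈ S.F (a * M) → d.leadingCoeff * f ∈ V ^ (M + j) := fun M f hf => by
    have hint : (algebraMap A0 L).IsIntegralElem (cK f * X' ^ M) := by
      refine SmoothFormLib.isIntegralElem_of_valuation _ _ fun L' _ ψ O hO => ?_
      obtain ⟨i, hi⟩ := hS.val (O.comap (ψ.comp cK)) fun c => by
        have := hO (algebraMap k A0 c)
        rw [hval'] at this
        exact this
      have h1 : ψ (cK (f / S.y i ^ (a * M))) ∈ O := hi _ (hf i)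
      have h2 : ψ (cK (S.y i ^ a) * X') ∈ O := by
        have := hO ⟨_, hgen _ (hWy i)⟩
        rwa [show algebraMap A0 L ⟨_, hgen _ (hWy i)⟩ = cK (S.y i ^ a) * X' from (hval' _).trans (map_mul _ _ _)] at this
      have heq : cK f * X' ^ M = cK (f / S.y i ^ (a * M)) * (cK (S.y i ^ a) * X') ^ M := by
        rw [mul_pow, ← mul_assoc, ← map_pow cK, ← map_mul, ← pow_mul, div_mul_cancel₀]
        exact pow_ne_zero _ (S.ne i)
      rw [heq, map_mul, map_pow]
      exact mul_mem h1 (pow_mem h2 M)
    obtain ⟨p, hp⟩ := hδz (cK f * X' ^ M) hint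
    rw [hval', hval'] at hp
    have hp' : d * (Polynomial.C f * Polynomial.X ^ M) = (p : K[X]) := by
      refine IsFractionRing.injective K[X] L ?_
      rw [map_mul, map_mul, map_pow]
      exact hp
    have := hcoeff _ p.2 (M + j)
    rwa [← hp', ← mul_assoc, add_comm M j, Polynomial.coeff_mul_X_pow, Polynomial.coeff_mul_C, add_comm j M] at this
  refine ⟨C * (j + 1) ^ g, fun M => ?_⟩
  obtain ⟨hfd, hbound⟩ := hC (M + j)
  let Ψ : S.F (a * M) →ₗ[k] (V ^ (M + j) : Submodule k K) :=
    LinearMap.codRestrict _ ((LinearMap.mulLeft k d.leadingCoeff).comp (S.F (a * M)).subtype) fun f => hFW M f f.2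
  have hΨ : Function.Injective Ψ := fun x y h => Subtype.ext
    (mul_left_cancel₀ (Polynomial.leadingCoeff_ne_zero.2 hd) (congrArg Subtype.val h))
  haveI := hfd
  haveI : FiniteDimensional k (S.F (a * M)) := FiniteDimensional.of_injective Ψ hΨ
  have hle : S.F M ≤ S.F (a * M) := S.F_mono (Nat.le_mul_of_pos_left M (Nat.succ_pos e))
  refine ⟨Submodule.finiteDimensional_of_le hle, (Submodule.finrank_mono hle).trans ?_⟩
  refine ((LinearMap.finrank_le_finrank_of_injective hΨ).trans hbound).trans ?_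
  rw [mul_assoc, ← mul_pow]
  exact Nat.mul_le_mul_left C (Nat.pow_le_pow_left (by nlinarith) g)

/-- Lower bound: `h(c m) ≥ (m + 1) ^ g`. -/
theorem exists_lower (hS : S.Good g) : ∃ c, 0 < c ∧ ∀ m, (m + 1) ^ g ≤ S.h (c * m) := by
  classical
  obtain ⟨γ, hinj, -⟩ := exists_noether (S.R S.i0) hS.fg hS.dim
  obtain ⟨C, hC⟩ := hS.exists_upper
  obtain ⟨e, he⟩ := S.exists_mem_F_finset (Finset.univ.image fun l => (γ (MvPolynomial.X l) : K)) fun r hr => by
    obtain ⟨l, -, rfl⟩ := Finset.mem_image.1 hr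
    exact (γ _).2
  refine ⟨e * g + 1, Nat.succ_pos _, fun m => ?_⟩
  haveI := (hC ((e * g + 1) * m)).1
  have hmem : ∀ p : box k g m, (γ (p : MvPolynomial (Fin g) k) : K) ∈ S.F ((e * g + 1) * m) := fun p => by
    rw [MvPolynomial.as_sum (p : MvPolynomial (Fin g) k), map_sum, AddSubmonoidClass.coe_finsetSum]
    refine Submodule.sum_mem _ fun s hs => ?_
    rw [MvPolynomial.monomial_eq, Finsupp.prod_fintype _ _ (fun _ => pow_zero _), map_mul,
      show (MvPolynomial.C (MvPolynomial.coeff s p.1) : MvPolynomial (Fin g) k) = algebraMap k _ _ from rfl,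
      AlgHom.commutes, MulMemClass.coe_mul]
    show algebraMap k K _ * _ ∈ _
    rw [← Algebra.smul_def, map_prod, SubmonoidClass.coe_finsetProd]
    refine Submodule.smul_mem _ _ (S.F_mono (M := ∑ l, e * s l) ?_ ?_)
    · calc ∑ l, e * s l ≤ ∑ _l : Fin g, e * m :=
            Finset.sum_le_sum fun l _ => Nat.mul_le_mul_left e (mem_box.1 p.2 s hs l)
        _ ≤ (e * g + 1) * m := by simp; nlinarith
    · induction (Finset.univ : Finset (Fin g)) using Finset.induction_on with
      | empty => simpa using S.one_mem_F 0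
      | insert l t hl ih =>
        rw [Finset.prod_insert hl, Finset.sum_insert hl, map_pow, SubmonoidClass.coe_pow]
        exact S.mul_mem_F (S.pow_mem_F (he _ (Finset.mem_image.2 ⟨l, Finset.mem_univ l, rfl⟩)) _) ih
  let Ψ : box k g m →ₗ[k] S.F ((e * g + 1) * m) :=
    LinearMap.codRestrict _ (((S.R S.i0).val.comp γ).toLinearMap.comp (box k g m).subtype) hmem
  have hΨ : Function.Injective Ψ := fun p q h => Subtype.ext (hinj (Subtype.ext (congrArg Subtype.val h : _)))
  rw [← finrank_box k g m]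
  exact LinearMap.finrank_le_finrank_of_injective hΨ

end Sys.Good

end Groth.Agent.AVDegLib
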