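import Mathlib.RingTheory.Valuation.LocalSubring
import Mathlib.RingTheory.Flat.Basic
import Mathlib.RingTheory.Kaehler.Basic
import Mathlib.FieldTheory.IsAlgClosed.AlgebraicClosure
import Mathlib.FieldTheory.KummerPolynomial
import Mathlib.RingTheory.Ideal.Quotient.Operations
import Mathlib.LinearAlgebra.Dimension.Constructions

/-!
Counting the primes over a point through an intermediate field containing `p`-th powers, and the degree of
a field over the kernel of its differential.
-/

set_option linter.style.haveILetI false
set_option autoImplicit false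

universe u

open TensorProduct Function

namespace Groth.Agent.AVDegLib

/-- The primes over a maximal ideal, for a finite flat extension, are no more than the degree of any
intermediate field containing all `q`-th powers. -/
theorem card_le_finrank {C B K L : Type u} [CommRing C] [IsDomain C] [CommRing B] [IsDomain B] [Field K] [Field L]
    [Algebra C B] [Algebra C K] [IsFractionRing C K] [Algebra B L] [Algebra K L] [Algebra C L]
    [IsScalarTower C B L] [IsScalarTower C K L] [Module.Flat C B] [Algebra.IsIntegral C B]
    (hBL : Function.Injective (algebraMap B L)) (p : Ideal C) [p.IsMaximal]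
    (s : Finset (Ideal B)) (hs : ∀ q ∈ s, q.IsPrime ∧ q.comap (algebraMap C B) = p)
    (M : IntermediateField K L) [FiniteDimensional K M] {e : ℕ} (he : 0 < e)
    (hM : ∀ b : B, algebraMap B L b ^ e ∈ M) : s.card ≤ Module.finrank K M := by
  classical
  have hmax : ∀ q : s, (q : Ideal B).IsMaximal := fun q => by
    haveI := (hs q q.2).1
    exact Ideal.isMaximal_of_isIntegral_of_isMaximal_comap (q : Ideal B)
      (by rw [(hs q q.2).2]; infer_instance)
  have hcop : Pairwise (IsCoprime on fun q : s => (q : Ideal B)) := fun q q' h => by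
    rw [Function.onFun, Ideal.isCoprime_iff_sup_eq]
    exact (hmax q).coprime_of_ne (hmax q') fun h' => h (Subtype.ext h')
  choose b hb using fun q : s => Ideal.exists_forall_sub_mem_ideal hcop (fun j => if j = q then (1 : B) else 0)
  let w : s → M := fun q => ⟨algebraMap B L (b q) ^ e, hM (b q)⟩
  suffices H : LinearIndependent K w by simpa using H.fintype_card_le_finrank
  rw [Fintype.linearIndependent_iff]
  intro c hc q₀
  by_contra hq₀
  -- a valuation ring dominating the point
  obtain ⟨O, hO⟩ := (LocalSubring.range (IsLocalization.lift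
    (M := p.primeCompl) (S := Localization.AtPrime p) (g := algebraMap C K)
    fun y => IsUnit.mk0 _ ((map_ne_zero_iff _ (IsFractionRing.injective C K)).2
      fun h => y.2 (h ▸ zero_mem p)))).exists_le_valuationSubring
  obtain ⟨hO1, hO2⟩ := hO
  have hCO : ∀ x : C, algebraMap C K x ∈ O := fun x =>
    hO1 ⟨algebraMap C (Localization.AtPrime p) x, IsLocalization.lift_eq _ _⟩
  have hpO : ∀ x ∈ p, (⟨algebraMap C K x, hCO x⟩ : O) ∈ IsLocalRing.maximalIdeal O := fun x hx => by
    intro hu
    let x' : (LocalSubring.range (IsLocalization.lift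
        (M := p.primeCompl) (S := Localization.AtPrime p) (g := algebraMap C K)
        fun y => IsUnit.mk0 _ ((map_ne_zero_iff _ (IsFractionRing.injective C K)).2
          fun h => y.2 (h ▸ zero_mem p)))).toSubring :=
      ⟨algebraMap C K x, algebraMap C (Localization.AtPrime p) x, IsLocalization.lift_eq _ _⟩
    obtain ⟨⟨z, a, rfl⟩, hz⟩ := (hO2.map_nonunit x' hu).exists_right_inv
    have h1 : algebraMap C (Localization.AtPrime p) x * a = 1 := by
      have hinj := (IsLocalization.lift_injective_iff (M := p.primeCompl) (S := Localization.AtPrime p)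
        (g := algebraMap C K) fun y => IsUnit.mk0 _ ((map_ne_zero_iff _ (IsFractionRing.injective C K)).2
          fun h => y.2 (h ▸ zero_mem p))).2 fun r t => ?_
      refine hinj ((map_mul _ _ _).trans ?_)
      rotate_left
      · rw [(IsFractionRing.injective C K).eq_iff,
          (IsLocalization.injective (Localization.AtPrime p) p.primeCompl_le_nonZeroDivisors).eq_iff]
      · rw [map_one, IsLocalization.lift_eq]
        exact congrArg Subtype.val hz
    exact (IsLocalization.AtPrime.isUnit_to_map_iff (Localization.AtPrime p) p x).1 (IsUnit.of_mul_eq_one _ h1) hx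
  obtain ⟨m, -, hm⟩ := Finset.exists_max_image Finset.univ (fun q => O.valuation (c q)) ⟨q₀, Finset.mem_univ _⟩
  have hcm : c m ≠ 0 := fun h => by
    have := hm q₀ (Finset.mem_univ _)
    rw [h, map_zero, le_zero_iff, map_eq_zero] at this
    exact hq₀ this
  have hc' : ∀ q, c q / c m ∈ O := fun q => by
    rw [← O.valuation_le_one_iff, map_div₀]
    exact div_le_one_of_le₀ (hm q (Finset.mem_univ _)) zero_le'
  letI : Algebra C O := ((algebraMap C K).codRestrict O.toSubring hCO).toAlgebra
  let z : O ⊗[C] B := ∑ q, (⟨c q / c m, hc' q⟩ : O) ⊗ₜ[C] (b q ^ e)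
  -- `O ⊗ B → L` is injective
  let ιO : O →ₗ[C] K := { toFun := Subtype.val, map_add' := fun _ _ => rfl,
                          map_smul' := fun x y => by rw [Algebra.smul_def, Algebra.smul_def]; rfl }
  let Φ : K ⊗[C] B →ₐ[C] L :=
    Algebra.TensorProduct.lift (IsScalarTower.toAlgHom C K L) (IsScalarTower.toAlgHom C B L) fun _ _ => Commute.all _ _
  have hΦ : ∀ x : K ⊗[C] B, Φ x = 0 → x = 0 := by
    intro x hx
    obtain ⟨t, ht, y, rfl⟩ : ∃ t : C, t ≠ 0 ∧ ∃ y : B, x = (algebraMap C K t)⁻¹ ⊗ₜ[C] y := by
      clear hx
      induction x using TensorProduct.induction_on with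
      | zero => exact ⟨1, one_ne_zero, 0, by simp⟩
      | tmul a y =>
        obtain ⟨r, t, ht, rfl⟩ := IsFractionRing.div_surjective (A := C) a
        refine ⟨t, nonZeroDivisors.ne_zero ht, r • y, ?_⟩
        rw [← TensorProduct.smul_tmul, Algebra.smul_def, div_eq_mul_inv]
      | add x x' hx hx' =>
        obtain ⟨t, ht, y, rfl⟩ := hx; obtain ⟨t', ht', y', rfl⟩ := hx'
        refine ⟨t * t', mul_ne_zero ht ht', t' • y + t • y', ?_⟩
        have h1 : algebraMap C K t ≠ 0 := (map_ne_zero_iff _ (IsFractionRing.injective C K)).2 ht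
        have h2 : algebraMap C K t' ≠ 0 := (map_ne_zero_iff _ (IsFractionRing.injective C K)).2 ht'
        rw [TensorProduct.tmul_add, ← TensorProduct.smul_tmul, ← TensorProduct.smul_tmul, Algebra.smul_def,
          Algebra.smul_def, map_mul]
        congr 1 <;> congr 1 <;> field_simp
    simp only [Φ, Algebra.TensorProduct.lift_tmul, IsScalarTower.coe_toAlgHom', map_inv₀, mul_eq_zero,
      inv_eq_zero, ← IsScalarTower.algebraMap_apply] at hx
    rcases hx with h | h
    · exfalso
      apply ht
      apply (IsFractionRing.injective C K)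
      apply (algebraMap K L).injective
      rw [← IsScalarTower.algebraMap_apply, h, map_zero, map_zero]
    · rw [hBL (h.trans (map_zero _).symm), TensorProduct.tmul_zero]
  have hz0 : z = 0 := by
    refine Module.Flat.rTensor_preserves_injective_linearMap ιO Subtype.val_injective ((hΦ _ ?_).trans (map_zero _).symm)
    show Φ (LinearMap.rTensor B ιO (∑ q, _)) = 0
    rw [map_sum, map_sum]
    have h0 : ∑ q, algebraMap K L (c q) * algebraMap B L (b q) ^ e = 0 := by
      have := congrArg Subtype.val hc
      simpa [w, Algebra.smul_def] using this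
    calc ∑ q, Φ (LinearMap.rTensor B ιO ((⟨c q / c m, hc' q⟩ : O) ⊗ₜ[C] (b q ^ e)))
        = ∑ q, (algebraMap K L (c m))⁻¹ * (algebraMap K L (c q) * algebraMap B L (b q) ^ e) := by
          refine Finset.sum_congr rfl fun q _ => ?_
          simp [Φ, ιO, Algebra.TensorProduct.lift_tmul, map_div₀, div_eq_mul_inv]
          ring
      _ = 0 := by rw [← Finset.mul_sum, h0, mul_zero]
  -- evaluate at the prime `m`
  let κ := IsLocalRing.ResidueField O
  let Ω := AlgebraicClosure κ
  let ψ : O →+* Ω := (algebraMap κ Ω).comp (IsLocalRing.residue O)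
  let q : Ideal B := (m : Ideal B)
  haveI : q.IsMaximal := hmax m
  letI := Ideal.Quotient.field q
  letI := Ideal.Quotient.field p
  letI : Algebra (C ⧸ p) (B ⧸ q) := (Ideal.quotientMap q (algebraMap C B) (hs m m.2).2.ge).toAlgebra
  letI : Algebra (C ⧸ p) Ω := (Ideal.Quotient.lift p (ψ.comp (algebraMap C O)) fun x hx => by
    show algebraMap κ Ω (IsLocalRing.residue O ⟨algebraMap C K x, hCO x⟩) = 0
    rw [(IsLocalRing.residue_eq_zero_iff _).2 (hpO x hx), map_zero]).toAlgebra
  haveI : Algebra.IsIntegral (C ⧸ p) (B ⧸ q) := ⟨fun y => by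
    obtain ⟨y, rfl⟩ := Ideal.Quotient.mk_surjective y
    obtain ⟨P, hP, hP'⟩ := Algebra.IsIntegral.isIntegral (R := C) y
    refine ⟨P.map (Ideal.Quotient.mk p), hP.map _, ?_⟩
    rw [Polynomial.eval₂_map, show (algebraMap (C ⧸ p) (B ⧸ q)).comp (Ideal.Quotient.mk p) =
      (Ideal.Quotient.mk q).comp (algebraMap C B) from rfl, ← Polynomial.hom_eval₂, hP', map_zero]⟩
  haveI : Algebra.IsAlgebraic (C ⧸ p) (B ⧸ q) := Algebra.IsIntegral.isAlgebraic
  let lift : B ⧸ q →ₐ[C ⧸ p] Ω := IsAlgClosed.lift
  letI : Algebra C Ω := (ψ.comp (algebraMap C O)).toAlgebra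
  let f₁ : O →ₐ[C] Ω := { ψ with commutes' := fun _ => rfl }
  let f₂ : B →ₐ[C] Ω := { lift.toRingHom.comp (Ideal.Quotient.mk q) with
    commutes' := fun x => lift.commutes (Ideal.Quotient.mk p x) }
  have hχ := congrArg (Algebra.TensorProduct.lift f₁ f₂ fun _ _ => Commute.all _ _) hz0
  rw [map_zero, map_sum] at hχ
  have hbv : ∀ j, f₂ (b j) = if m = j then 1 else 0 := fun j => by
    show lift (Ideal.Quotient.mk q (b j)) = _
    rw [show Ideal.Quotient.mk q (b j) = Ideal.Quotient.mk q (if m = j then 1 else 0) from
      Ideal.Quotient.eq.2 (hb j m)]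
    split_ifs <;> simp
  simp only [Algebra.TensorProduct.lift_tmul, map_pow, hbv, ite_pow, one_pow, zero_pow he.ne', mul_ite, mul_one,
    mul_zero, Finset.sum_ite_eq, Finset.mem_univ, if_true] at hχ
  have : (⟨c m / c m, hc' m⟩ : O) = 1 := Subtype.ext (div_self hcm)
  rw [this, map_one] at hχ
  exact one_ne_zero hχ

section differential

variable (k : Type u) {L : Type u} [Field k] [Field L] [Algebra k L]

/-- The field of elements with vanishing differential. -/
def dKer (K : Type u) [Field K] [Algebra K L]
    (hK : ∀ x : K, KaehlerDifferential.D k L (algebraMap K L x) = 0) : IntermediateField K L where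
  carrier := {x | KaehlerDifferential.D k L x = 0}
  mul_mem' := fun {a b} ha hb => by
    show KaehlerDifferential.D k L (a * b) = 0
    rw [Derivation.leibniz, ha, hb, smul_zero, smul_zero, add_zero]
  add_mem' := fun {a b} ha hb => by
    show KaehlerDifferential.D k L (a + b) = 0
    rw [map_add, ha, hb, add_zero]
  algebraMap_mem' := hK
  inv_mem' := fun x hx => by
    show KaehlerDifferential.D k L x⁻¹ = 0
    rw [Derivation.leibniz_inv, hx, smul_zero]

/-- The degree over the kernel of the differential is at least `p ^ rank Ω`. -/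
theorem pow_le_finrank_dKer (K : Type u) [Field K] [Algebra K L] [FiniteDimensional K L]
    (hK : ∀ x : K, KaehlerDifferential.D k L (algebraMap K L x) = 0) {p : ℕ} [Fact p.Prime] [CharP L p] {g : ℕ}
    (hg : g ≤ Module.finrank L Ω[L⁄k]) : p ^ g ≤ Module.finrank (dKer k K hK) L := by
  classical
  let M := dKer k K hK
  have hp : ∀ x : L, x ^ p ∈ M := fun x => by
    show KaehlerDifferential.D k L (x ^ p) = 0
    rw [Derivation.leibniz_pow, ← Nat.cast_smul_eq_nsmul L, CharP.cast_eq_zero, zero_smul]
  suffices H : ∀ r ≤ g, ∃ (N : IntermediateField M L) (T : Finset Ω[L⁄k]), T.card ≤ r ∧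
      (∀ x ∈ N, KaehlerDifferential.D k L x ∈ Submodule.span L (T : Set Ω[L⁄k])) ∧ p ^ r ≤ Module.finrank M N by
    obtain ⟨N, T, -, -, hN⟩ := H g le_rfl
    exact hN.trans (Submodule.finrank_le (Subalgebra.toSubmodule N.toSubalgebra))
  intro r
  induction r with
  | zero =>
    intro _
    refine ⟨⊥, ∅, le_rfl, fun x hx => ?_, by rw [IntermediateField.finrank_bot]; simp⟩
    obtain ⟨y, rfl⟩ := IntermediateField.mem_bot.1 hx
    rw [show KaehlerDifferential.D k L (algebraMap M L y) = 0 from y.2]
    exact zero_mem _
  | succ r ih =>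
    intro hr
    obtain ⟨N, T, hT, hspan, hN⟩ := ih (by omega)
    obtain ⟨x, hx⟩ : ∃ x, x ∉ N := by
      by_contra h
      push_neg at h
      have htop : Submodule.span L (T : Set Ω[L⁄k]) = ⊤ := by
        rw [eq_top_iff, ← KaehlerDifferential.span_range_derivation, Submodule.span_le]
        rintro - ⟨x, rfl⟩
        exact hspan x (h x)
      have := (finrank_span_finset_le_card (R := L) T).trans hT
      rw [Set.finrank, htop, finrank_top] at this
      omega
    let dx := KaehlerDifferential.D k L x
    refine ⟨(IntermediateField.adjoin N {x}).restrictScalars M, insert dx T,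
      (Finset.card_insert_le _ _).trans (by omega), fun y hy => ?_, ?_⟩
    · have hTle : Submodule.span L (T : Set Ω[L⁄k]) ≤ Submodule.span L ↑(insert dx T) :=
        Submodule.span_mono (by simp)
      rw [IntermediateField.mem_restrictScalars] at hy
      induction hy using IntermediateField.adjoin_induction with
      | mem y hy =>
        rw [Set.mem_singleton_iff] at hy
        subst hy
        exact Submodule.subset_span (by simp [dx])
      | algebraMap y => exact hTle (hspan _ y.2)
      | add a b _ _ ha hb => rw [map_add]; exact add_mem ha hb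
      | inv a _ ha => rw [Derivation.leibniz_inv]; exact Submodule.smul_mem _ _ ha
      | mul a b _ _ ha hb => rw [Derivation.leibniz]; exact add_mem (Submodule.smul_mem _ _ hb) (Submodule.smul_mem _ _ ha)
    · have hpm : x ^ p ∈ N := by
        have := N.algebraMap_mem ⟨x ^ p, hp x⟩
        exact this
      let a : N := ⟨x ^ p, hpm⟩
      have hirr : Irreducible (Polynomial.X ^ p - Polynomial.C a) :=
        X_pow_sub_C_irreducible_of_prime Fact.out fun y hy => hx (by
          have : (y : L) = x := frobenius_inj L p (congrArg Subtype.val hy)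
          exact this ▸ y.2)
      have hmin := minpoly.eq_of_irreducible_of_monic hirr (x := x) (by simp [a])
        (Polynomial.monic_X_pow_sub_C a (Nat.Prime.ne_zero Fact.out))
      have hint : IsIntegral N x := ⟨Polynomial.X ^ p - Polynomial.C a, Polynomial.monic_X_pow_sub_C a (Nat.Prime.ne_zero Fact.out), by simp [a]⟩
      have hdeg : Module.finrank N (IntermediateField.adjoin N {x}) = p := by
        rw [IntermediateField.adjoin.finrank hint, ← hmin, Polynomial.natDegree_X_pow_sub_C]
      calc p ^ (r + 1) ≤ Module.finrank M N * Module.finrank N (IntermediateField.adjoin N {x}) := by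
            rw [hdeg, pow_succ]; exact Nat.mul_le_mul_right p hN
        _ = Module.finrank M (IntermediateField.adjoin N {x}) := Module.finrank_mul_finrank M N _

/-- The number of primes over a point, when the differential kills the base field. -/
theorem card_mul_pow_le {C B K : Type u} [CommRing C] [IsDomain C] [CommRing B] [IsDomain B] [Field K]
    [Algebra C B] [Algebra C K] [IsFractionRing C K] [Algebra B L] [Algebra K L] [Algebra C L]
    [IsScalarTower C B L] [IsScalarTower C K L] [Module.Flat C B] [Algebra.IsIntegral C B]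
    [FiniteDimensional K L] (hBL : Function.Injective (algebraMap B L)) (P : Ideal C) [P.IsMaximal]
    (hK : ∀ x : K, KaehlerDifferential.D k L (algebraMap K L x) = 0) {p : ℕ} [Fact p.Prime] [CharP L p] {g : ℕ}
    (hg : g ≤ Module.finrank L Ω[L⁄k]) {S : Type*} [Fintype S] (q : S → Ideal B) (hq : Function.Injective q)
    (hqP : ∀ a, (q a).IsPrime ∧ (q a).comap (algebraMap C B) = P) :
    Fintype.card S * p ^ g ≤ Module.finrank K L := by
  classical
  have h1 := card_le_finrank (K := K) hBL P (Finset.univ.image q)
    (fun r hr => by obtain ⟨a, -, rfl⟩ := Finset.mem_image.1 hr; exact hqP a)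
    (dKer k K hK) (Nat.Prime.pos (Fact.out : p.Prime)) (fun b => by
      show KaehlerDifferential.D k L _ = 0
      rw [Derivation.leibniz_pow, ← Nat.cast_smul_eq_nsmul L, CharP.cast_eq_zero, zero_smul])
  rw [Finset.card_image_of_injective _ hq, Finset.card_univ] at h1
  exact (Nat.mul_le_mul h1 (pow_le_finrank_dKer k K hK hg)).trans_eq (Module.finrank_mul_finrank K _ L)

end differential

end Groth.Agent.AVDegLib
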