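import Groth.Agent.AVDegLib.Chart

/-!
Pulling charts back along a finite surjective morphism; its degree as a degree of function fields.
-/

noncomputable section

set_option linter.style.haveILetI false
set_option linter.unusedSectionVars false
set_option backward.isDefEq.respectTransparency false
set_option backward.isDefEq.respectTransparency.types false
set_option maxHeartbeats 1000000
set_option autoImplicit false

universe u

open CategoryTheory CategoryTheory.Limits AlgebraicGeometry TopologicalSpace Opposite

namespace Groth.Agent.AVDegLib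

variable {k : Type u} [Field k] {A B : Over (Spec (CommRingCat.of k))} [IsIntegral A.left] [IsIntegral B.left]
  (φ : A ⟶ B) [IsFinite φ.left] [Surjective φ.left]

theorem map_eta : φ.left (genericPoint A.left) = genericPoint B.left := by
  have h := (genericPoint_spec A.left).image φ.left.continuous
  rw [Set.image_univ, φ.left.surjective.range_eq, closure_univ] at h
  exact h.eq (genericPoint_spec B.left)

theorem eta_preimage {U : B.left.Opens} (h : genericPoint B.left ∈ U) :
    genericPoint A.left ∈ φ.left ⁻¹ᵁ U := by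
  show φ.left (genericPoint A.left) ∈ U
  rw [map_eta]; exact h

/-- The inclusion of function fields. -/
def ffMap : B.left.functionField →+* A.left.functionField :=
  (φ.left.stalkMap (genericPoint A.left)).hom.comp
    (B.left.presheaf.stalkSpecializes (show φ.left (genericPoint A.left) ⤳ genericPoint B.left by rw [map_eta])).hom

theorem ffMap_gm {U : B.left.Opens} (h : genericPoint B.left ∈ U) (a : Γ(B.left, U)) :
    ffMap φ (gm U h a) = gm (φ.left ⁻¹ᵁ U) (eta_preimage φ h) (φ.left.app U a) := by
  show φ.left.stalkMap _ (B.left.presheaf.stalkSpecializes _ (B.left.presheaf.germ U _ h a)) = _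
  rw [TopCat.Presheaf.germ_stalkSpecializes_apply]
  exact Scheme.Hom.germ_stalkMap_apply φ.left U _ _ a

theorem ffMap_algebraMap (c : k) :
    ffMap φ (algebraMap k B.left.functionField c) = algebraMap k A.left.functionField c := by
  refine (ffMap_gm φ (U := ⊤) trivial _).trans ?_
  show gm _ _ (φ.left.appTop (B.hom.appTop ((Scheme.ΓSpecIso (CommRingCat.of k)).inv c))) =
    gm _ _ (A.hom.appTop ((Scheme.ΓSpecIso (CommRingCat.of k)).inv c))
  exact congrArg _ (congrArg (fun f : A.left ⟶ Spec (CommRingCat.of k) =>
    f.appTop ((Scheme.ΓSpecIso (CommRingCat.of k)).inv c)) (Over.w φ))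

/-- The function field upstairs as an algebra over the one downstairs. -/
@[reducible] def ffExt : Algebra B.left.functionField A.left.functionField := (ffMap φ).toAlgebra

theorem isScalarTower_ff :
    letI := ffExt φ
    IsScalarTower k B.left.functionField A.left.functionField :=
  letI := ffExt φ
  IsScalarTower.of_algebraMap_eq fun c => (ffMap_algebraMap φ c).symm

variable {ι : Type u} (C : Chart B ι)

/-- The pullback of charts. -/
def Chart.pull : Chart A ι where
  U i := φ.left ⁻¹ᵁ C.U i
  y i := ffMap φ (C.y i)
  i0 := C.i0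
  y0 := by rw [C.y0, map_one]
  ne i := (map_ne_zero (ffMap φ)).2 (C.ne i)
  hη i := eta_preimage φ (C.hη i)
  haff i := (C.haff i).preimage φ.left
  cover x := C.cover (φ.left x)
  a i j := φ.left.app (C.U i) (C.a i j)
  ha i j := by rw [← ffMap_gm φ (C.hη i), C.ha, map_div₀]
  hbasic i j := by rw [← Scheme.preimage_basicOpen, C.hbasic, Scheme.Hom.preimage_inf]

theorem hR_pull (i : ι) {r : B.left.functionField} (hr : r ∈ C.sys.R i) :
    ffMap φ r ∈ (C.pull φ).sys.R i := by
  obtain ⟨a, rfl⟩ := hr (C.hη i)
  rw [ffMap_gm φ (C.hη i)]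
  exact gm_mem_sect (eta_preimage φ (C.hη i)) _

theorem hfin_pull (i : ι) :
    letI := ffExt φ
    ∃ s : Finset A.left.functionField, ↑s ⊆ ((C.pull φ).sys.R i : Set A.left.functionField) ∧
      ∀ x ∈ (C.pull φ).sys.R i, ∃ c : A.left.functionField → B.left.functionField,
        (∀ β ∈ s, c β ∈ C.sys.R i) ∧ ∑ β ∈ s, c β • β = x := by
  classical
  letI := ffExt φ
  let R := Γ(B.left, C.U i)
  let V := φ.left ⁻¹ᵁ C.U i
  have hV : genericPoint A.left ∈ V := eta_preimage φ (C.hη i)
  letI : Algebra R Γ(A.left, V) := (φ.left.app (C.U i)).hom.toAlgebra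
  haveI : Module.Finite R Γ(A.left, V) := φ.left.finite_app _ (C.haff i)
  obtain ⟨t, ht⟩ := Module.Finite.fg_top (R := R) (M := Γ(A.left, V))
  refine ⟨t.image (gm V hV), fun x hx => ?_, fun x hx => ?_⟩
  · obtain ⟨a, -, rfl⟩ := Finset.mem_image.1 hx
    exact gm_mem_sect hV a
  obtain ⟨a, rfl⟩ : ∃ a : Γ(A.left, V), gm V hV a = x := hx hV
  obtain ⟨f, -, hf⟩ := Submodule.mem_span_finset.1 (ht ▸ Submodule.mem_top (x := a))
  refine ⟨fun β => gm (C.U i) (C.hη i) (f (Function.invFun (gm V hV) β)), fun β _ => gm_mem_sect _ _, ?_⟩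
  rw [Finset.sum_image (gm_injective V hV).injOn, ← hf, map_sum]
  refine Finset.sum_congr rfl fun b _ => ?_
  dsimp only
  rw [Function.leftInverse_invFun (gm_injective V hV) b, Algebra.smul_def, Algebra.smul_def, map_mul]
  exact congrArg (· * _) (ffMap_gm φ (C.hη i) _)

theorem finiteDimensional_ff :
    letI := ffExt φ
    FiniteDimensional B.left.functionField A.left.functionField := by
  classical
  letI := ffExt φ
  obtain ⟨U, hU, hη, -⟩ := exists_isAffineOpen_mem_and_subset (x := genericPoint B.left) (U := ⊤) trivial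
  let V := φ.left ⁻¹ᵁ U
  have hV : genericPoint A.left ∈ V := eta_preimage φ hη
  letI : Algebra Γ(B.left, U) Γ(A.left, V) := (φ.left.app U).hom.toAlgebra
  haveI : Module.Finite Γ(B.left, U) Γ(A.left, V) := φ.left.finite_app _ hU
  obtain ⟨t, ht⟩ := Module.Finite.fg_top (R := Γ(B.left, U)) (M := Γ(A.left, V))
  let K := B.left.functionField
  let R' : Subalgebra k A.left.functionField := sect A V
  let P : Subalgebra K A.left.functionField := Algebra.adjoin K (R' : Set A.left.functionField)
  have hle : Subalgebra.toSubmodule P ≤ Submodule.span K (↑(t.image (gm V hV)) : Set A.left.functionField) := by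
    rw [Algebra.adjoin_eq_span, show (R' : Set A.left.functionField) = (R'.toSubmonoid : Set A.left.functionField) from rfl,
      Submonoid.closure_eq, Submodule.span_le]
    intro x hx
    obtain ⟨a, rfl⟩ := hx hV
    obtain ⟨f, -, hf⟩ := Submodule.mem_span_finset.1 (ht ▸ Submodule.mem_top (x := a))
    rw [← hf, map_sum]
    refine Submodule.sum_mem _ fun b hb => ?_
    rw [Algebra.smul_def, map_mul, show gm V hV (algebraMap Γ(B.left, U) Γ(A.left, V) (f b)) =
      ffMap φ (gm U hη (f b)) from (ffMap_gm φ hη _).symm]
    exact (Submodule.span K _).smul_mem (gm U hη (f b)) (Submodule.subset_span (Finset.mem_image.2 ⟨b, hb, rfl⟩))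
  haveI : FiniteDimensional K (Subalgebra.toSubmodule P) := Submodule.finiteDimensional_of_le hle
  haveI : FiniteDimensional K P := ‹FiniteDimensional K (Subalgebra.toSubmodule P)›
  have hP : P = ⊤ := by
    rw [eq_top_iff]
    intro f _
    obtain ⟨a, ha, b, hb, hb0, rfl⟩ := frac_sect (hU.preimage φ.left) hV f
    rw [div_eq_mul_inv]
    exact P.mul_mem (Algebra.subset_adjoin ha)
      (P.inv_mem_of_algebraic (x := ⟨b, Algebra.subset_adjoin hb⟩)
        ((Algebra.IsAlgebraic.isAlgebraic (R := K) (⟨b, Algebra.subset_adjoin hb⟩ : P)).algHom P.val))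
  exact Module.Finite.equiv ((Subalgebra.equivOfEq P ⊤ hP).trans Subalgebra.topEquiv).toLinearEquiv

/-- A finite flat surjection of integral schemes has the degree of the function field extension as rank. -/
theorem finrank_eq [Flat φ.left] [LocallyOfFinitePresentation φ.left] (y : B.left) :
    letI := ffExt φ
    φ.left.finrank y = Module.finrank B.left.functionField A.left.functionField := by
  letI := ffExt φ
  haveI := finiteDimensional_ff φ
  obtain ⟨U, hU, hη, -⟩ := exists_isAffineOpen_mem_and_subset (x := genericPoint B.left) (U := ⊤) trivial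
  let V := φ.left ⁻¹ᵁ U
  have hV : genericPoint A.left ∈ V := eta_preimage φ hη
  haveI : Nonempty U := ⟨⟨_, hη⟩⟩
  haveI : Nonempty V := ⟨⟨_, hV⟩⟩
  rw [show φ.left.finrank y = φ.left.finrank (genericPoint B.left) from
    φ.left.isLocallyConstant_finrank.apply_eq_of_preconnectedSpace _ _]
  let R := Γ(B.left, U)
  let S := Γ(A.left, V)
  letI : Algebra R S := (φ.left.app U).hom.toAlgebra
  haveI hfin : Module.Finite R S := φ.left.finite_app _ hU
  haveI hflat : Module.Flat R S := by
    have := φ.left.flat_appLE hU (hU.preimage φ.left) le_rfl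
    rwa [Scheme.Hom.appLE_eq_app] at this
  have hsq : IsPullback (hU.preimage φ.left).fromSpec (Spec.map (φ.left.app U)) φ.left hU.fromSpec := by
    refine IsPullback.flip (IsOpenImmersion.isPullback _ _ _ _ ?_ ?_)
    · rw [← IsAffineOpen.SpecMap_appLE_fromSpec φ.left hU (hU.preimage φ.left) le_rfl, Scheme.Hom.appLE_eq_app]
    · apply Opens.ext
      simp only [Scheme.Hom.coe_opensRange, Scheme.Hom.coe_preimage, IsAffineOpen.range_fromSpec]
  obtain ⟨p, hp⟩ : genericPoint B.left ∈ Set.range hU.fromSpec := by rw [hU.range_fromSpec]; exact hη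
  rw [← hp, ← Scheme.Hom.finrank_of_isPullback _ _ _ _ hsq p]
  rw [show φ.left.app U = CommRingCat.ofHom (algebraMap R S) from rfl, Scheme.Hom.finrank_SpecMap_algebraMap]
  haveI : Nontrivial R := inferInstance
  rw [Module.rankAtStalk_eq, Ideal.finrank_fiber_eq_finrank]
  let K := B.left.functionField
  let K' := A.left.functionField
  haveI := functionField_isFractionRing_of_isAffineOpen B.left U hU
  haveI := functionField_isFractionRing_of_isAffineOpen A.left V (hU.preimage φ.left)
  letI : Algebra R K' := ((algebraMap S K').comp (algebraMap R S)).toAlgebra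
  haveI : IsScalarTower R S K' := IsScalarTower.of_algebraMap_eq fun _ => rfl
  haveI : IsScalarTower R K K' := IsScalarTower.of_algebraMap_eq fun a => (ffMap_gm φ hη a).symm
  haveI : FaithfulSMul R S := (faithfulSMul_iff_algebraMap_injective R S).2 fun a b hab => by
    refine gm_injective U hη ((ffMap φ).injective ?_)
    rw [ffMap_gm φ hη, ffMap_gm φ hη]
    exact congrArg _ hab
  haveI : Algebra.IsAlgebraic R S := Algebra.IsIntegral.isAlgebraic
  exact (IsFractionRing.finrank_eq R K S K').symm

end Groth.Agent.AVDegLib
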