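import Groth.Agent.AVDegLib.Pull
import Groth.Agent.H23.TrivBasic
import Groth.Agent.AmpleX.Extend
import Groth.Agent.AmpleX.Generated
import Groth.Agent.AmpleX.QAGenerated

/-!
Sections of an invertible module as rational functions; the degree from `φ^*L ≅ L^{⊗ n}`.
-/

noncomputable section

set_option linter.style.haveILetI false
set_option linter.unusedSectionVars false
set_option backward.isDefEq.respectTransparency false
set_option backward.isDefEq.respectTransparency.types false
set_option maxHeartbeats 1000000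
set_option autoImplicit false

universe u

open CategoryTheory CategoryTheory.Limits AlgebraicGeometry TopologicalSpace Opposite

namespace Groth.Agent.AVDegLib

open Groth.Agent.InvX Groth.Agent.H23

variable {k : Type u} [Field k] {A : Over (Spec (CommRingCat.of k))} [IsIntegral A.left]
  {L : A.left.Modules}

/-- A frame near the generic point. -/
structure GenFrame (L : A.left.Modules) where
  U : A.left.Opens
  e : Γ(L, U)
  he : IsFrame e
  hη : genericPoint A.left ∈ U

variable (β : GenFrame L)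

/-- A section as a rational function, relative to a frame near the generic point. -/
def rho {U : A.left.Opens} (h : genericPoint A.left ∈ U) (s : Γ(L, U)) : A.left.functionField :=
  ((β.he.germ_bijective β.hη).2 (L.presheaf.germ U (genericPoint A.left) h s)).choose

theorem rho_spec {U : A.left.Opens} (h : genericPoint A.left ∈ U) (s : Γ(L, U)) :
    (show A.left.presheaf.stalk (genericPoint A.left) from rho β h s) •
      L.presheaf.germ β.U (genericPoint A.left) β.hη β.e = L.presheaf.germ U (genericPoint A.left) h s :=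
  ((β.he.germ_bijective β.hη).2 (L.presheaf.germ U (genericPoint A.left) h s)).choose_spec

theorem rho_eq {U : A.left.Opens} (h : genericPoint A.left ∈ U) (s : Γ(L, U)) {c : A.left.functionField}
    (hc : (show A.left.presheaf.stalk (genericPoint A.left) from c) •
      L.presheaf.germ β.U (genericPoint A.left) β.hη β.e = L.presheaf.germ U (genericPoint A.left) h s) :
    rho β h s = c :=
  (β.he.germ_bijective β.hη).1 ((rho_spec β h s).trans hc.symm)

theorem rho_res {U V : A.left.Opens} (i : V ≤ U) (h : genericPoint A.left ∈ V) (s : Γ(L, U)) :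
    rho β h (AModX.res L i s) = rho β (i h) s :=
  rho_eq β h _ ((rho_spec β (i h) s).trans (germ_res' i h s).symm)

theorem rho_smul {U : A.left.Opens} (h : genericPoint A.left ∈ U) (a : Γ(A.left, U)) (s : Γ(L, U)) :
    rho β h (a • s) = gm U h a * rho β h s := by
  refine rho_eq β h _ ?_
  rw [QCoh.germ_smul']
  exact (mul_smul _ _ _).trans (congrArg _ (rho_spec β h s))

theorem rho_self : rho β β.hη β.e = 1 := rho_eq β _ _ (one_smul _ _)

theorem rho_ne_zero {U : A.left.Opens} (h : genericPoint A.left ∈ U) {s : Γ(L, U)} (hs : IsFrame s) :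
    rho β h s ≠ 0 := fun h0 => by
  have h1 := rho_spec β h s
  rw [h0] at h1
  refine one_ne_zero (α := A.left.presheaf.stalk (genericPoint A.left)) ((hs.germ_bijective h).1 ?_)
  exact ((one_smul _ _).trans (h1.symm.trans (zero_smul _ _))).trans (zero_smul _ _).symm

/-- The relation between the rational functions of two sections on a common open. -/
theorem ratio_mem {U V : A.left.Opens} (hU : genericPoint A.left ∈ U) (hV : genericPoint A.left ∈ V)
    (s : Γ(L, U)) {t : Γ(L, V)} (ht : IsFrame t) : rho β hU s / rho β hV t ∈ sect A (U ⊓ V) := by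
  intro h
  obtain ⟨a, ha⟩ := ht.exists_coord (inf_le_right : U ⊓ V ≤ V) (AModX.res L inf_le_left s)
  refine ⟨a, ?_⟩
  have h1 := congrArg (rho β h) ha
  rw [rho_smul, rho_res, rho_res] at h1
  rw [h1, mul_div_cancel_right₀ _ (rho_ne_zero β hV ht)]

/-- Families of frames: bounded poles along one give bounded poles along the other. -/
theorem bounded_transfer {ι κ : Type*} (U : ι → A.left.Opens) (hU : ∀ i, genericPoint A.left ∈ U i)
    (σ : ∀ i, Γ(L, U i)) (hσ : ∀ i, IsFrame (σ i)) (cover : ∀ x, ∃ i, x ∈ U i)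
    (V : κ → A.left.Opens) (hV : ∀ j, genericPoint A.left ∈ V j)
    (τ : ∀ j, Γ(L, V j)) (hτ : ∀ j, IsFrame (τ j)) (M : ℕ) (f : A.left.functionField)
    (hf : ∀ i, f / rho β (hU i) (σ i) ^ M ∈ sect A (U i)) (j : κ) :
    f / rho β (hV j) (τ j) ^ M ∈ sect A (V j) := by
  refine mem_sect_of_local fun x hx => ?_
  obtain ⟨i, hi⟩ := cover x
  refine ⟨U i ⊓ V j, ⟨hi, hx⟩, ?_⟩
  have h0 := pow_ne_zero M (rho_ne_zero β (hU i) (hσ i))
  have h1 := mul_mem (sect_mono (inf_le_left : U i ⊓ V j ≤ U i) (hf i))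
    (pow_mem (ratio_mem β (hU i) (hV j) (σ i) (hτ j)) M)
  rwa [div_pow, div_mul_div_cancel₀ h0] at h1

theorem rho_pow {U : A.left.Opens} (h : genericPoint A.left ∈ U) (s : Γ(L, U)) (n : ℕ) :
    rho (⟨β.U, AmpleX.powElt β.e n, AmpleX.isFrame_powElt β.he n, β.hη⟩ : GenFrame (CohB1.tensorPow L n)) h
      (AmpleX.powElt s n) = rho β h s ^ n := by
  let γ : GenFrame (CohB1.tensorPow L n) := ⟨β.U, AmpleX.powElt β.e n, AmpleX.isFrame_powElt β.he n, β.hη⟩
  obtain ⟨a, ha⟩ := β.he.exists_coord (inf_le_right : U ⊓ β.U ≤ β.U) (AModX.res L inf_le_left s)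
  have hW : genericPoint A.left ∈ U ⊓ β.U := ⟨h, β.hη⟩
  have h1 := congrArg (rho β hW) ha
  rw [rho_smul, rho_res, rho_res, rho_self, mul_one] at h1
  have h2 : AModX.res _ (inf_le_left : U ⊓ β.U ≤ U) (AmpleX.powElt s n) =
      a ^ n • AModX.res _ (inf_le_right : U ⊓ β.U ≤ β.U) (AmpleX.powElt β.e n) := by
    rw [AmpleX.res_powElt, AmpleX.res_powElt, ha, AmpleX.powElt_smul]
  have h3 := congrArg (rho γ hW) h2
  rw [rho_smul, rho_res, rho_res, show rho γ β.hη (AmpleX.powElt β.e n) = 1 from rho_self γ, mul_one, map_pow,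
    ← h1] at h3
  exact h3

/-- Sections of an invertible module with affine generating loci covering the scheme. -/
structure Data (L : A.left.Modules) (ι : Type u) where
  σ : ι → Γ(L, ⊤)
  i0 : ι
  hη : ∀ i, genericPoint A.left ∈ TrivBasic.locus (σ i)
  haff : ∀ i, IsAffineOpen (TrivBasic.locus (σ i))
  cover : ∀ x, ∃ i, x ∈ TrivBasic.locus (σ i)

namespace Data

variable {ι : Type u} (D : Data L ι)

/-- The section on its locus. -/
abbrev sec (i : ι) : Γ(L, TrivBasic.locus (D.σ i)) := AModX.res L le_top (D.σ i)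

theorem isFrame_sec (i : ι) : IsFrame (D.sec i) := TrivBasic.isFrame_res_of_le_locus le_rfl

/-- The base frame. -/
abbrev base : GenFrame L := ⟨TrivBasic.locus (D.σ D.i0), D.sec D.i0, D.isFrame_sec D.i0, D.hη D.i0⟩

theorem exists_ratio (i j : ι) : ∃ a : Γ(A.left, TrivBasic.locus (D.σ i)),
    AModX.res L le_top (D.σ j) = a • D.sec i := by
  obtain ⟨a, ha⟩ := (D.isFrame_sec i).exists_coord le_rfl (AModX.res L le_top (D.σ j))
  rw [AModX.res_self] at ha
  exact ⟨a, ha⟩

/-- The charts of the divisor of the base section. -/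
def chart : Chart A ι where
  U i := TrivBasic.locus (D.σ i)
  y i := rho D.base (D.hη i) (D.sec i)
  i0 := D.i0
  y0 := rho_self D.base
  ne i := rho_ne_zero _ _ (D.isFrame_sec i)
  hη := D.hη
  haff := D.haff
  cover := D.cover
  a i j := (D.exists_ratio i j).choose
  ha i j := by
    have h1 := congrArg (rho D.base (D.hη i)) (D.exists_ratio i j).choose_spec
    rw [rho_smul, rho_res] at h1
    rw [eq_div_iff (rho_ne_zero _ _ (D.isFrame_sec i)), ← h1]
    exact (rho_res D.base le_top (D.hη j) (D.σ j)).symm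
  hbasic i j := by
    have h := (D.exists_ratio i j).choose_spec
    rw [← TrivBasic.locus_eq_basicOpen (D.isFrame_sec i) h, inf_comm]

end Data

/-- If `φ^*L ≅ L^{⊗ n}` for ample `L`, the degree of the finite flat surjection `φ` is `n ^ dim A`. -/
theorem finrank_eq_pow [IsProper A.hom] {g : ℕ} (hg : topologicalKrullDim A.left = g) (φ : A ⟶ A)
    [IsFinite φ.left] [Surjective φ.left] [Flat φ.left] [LocallyOfFinitePresentation φ.left]
    (hL : CohB1.IsAmple L) {n : ℕ} (hn : 2 ≤ n)
    (ψ : (Scheme.Modules.pullback φ.left).obj L ≅ CohB1.tensorPow L n) (y : A.left) :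
    φ.left.finrank y = n ^ g := by
  classical
  haveI : CompactSpace A.left := hL.2.1
  haveI : A.left.IsSeparated := ⟨by rw [← Limits.terminal.comp_from A.hom]; infer_instance⟩
  obtain ⟨a, ha, κ, _, s, haff, -, hcov⟩ := AmpleX.exists_cover_genLocus hL
  -- pass to the power of `L` having the sections
  let L' := CohB1.tensorPow L a
  have hL' : PicF.IsInvertible L' := InvX.isInvertible_tensorPow hL.1 a
  obtain ⟨ψ'⟩ : Nonempty ((Scheme.Modules.pullback φ.left).obj L' ≅ CohB1.tensorPow L' n) := by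
    open H23.PicMul in
    refine H23.PicMul.cl_eq_iff.1 ?_
    have hψ : PicF.pullCl φ.left (PicF.cl L) = PicF.cl (CohB1.tensorPow L n) := H23.PicMul.cl_eq_iff.2 ⟨ψ⟩
    show PicF.pullCl φ.left (PicF.cl (CohB1.tensorPow L a)) = PicF.cl (CohB1.tensorPow (CohB1.tensorPow L a) n)
    rw [H23.PicMul.cl_tensorPow, H23.PicMul.cl_tensorPow,
      show PicF.pullCl φ.left (PicF.cl L ^ a) = PicF.pullCl φ.left (PicF.cl L) ^ a from
        map_pow (H23.PicMul.pullHom φ.left) _ a,
      hψ, H23.PicMul.cl_tensorPow, H23.PicMul.cl_tensorPow, ← pow_mul, ← pow_mul, mul_comm]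
  let ι := {i : κ // (CohB1.genLocus _ (s i) : Set A.left).Nonempty}
  obtain ⟨j₀, hj₀⟩ := hcov (genericPoint A.left)
  let σ : ι → Γ(L', ⊤) := fun i => InvX.one (s i.1)
  have hloc : ∀ i : ι, TrivBasic.locus (σ i) = CohB1.genLocus _ (s i.1) := fun i =>
    congrArg (CohB1.genLocus _) (sub_eq_zero.1 (AmpleX.eq_zero_of_one_eq_zero _ (by
      show one (ofSect _) - one (s i.1) = 0
      rw [one_ofSect]; exact sub_self _)))
  let D : Data L' ι :=
    { σ := σ
      i0 := ⟨j₀, _, hj₀⟩
      hη := fun i => by rw [hloc]; exact eta_mem A i.2.some_mem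
      haff := fun i => by rw [hloc]; exact haff i.1
      cover := fun x => by
        obtain ⟨i, hi⟩ := hcov x
        exact ⟨⟨i, _, hi⟩, by rw [hloc]; exact hi⟩ }
  letI := ffExt φ
  haveI := isScalarTower_ff φ
  haveI := finiteDimensional_ff φ
  rw [finrank_eq φ y]
  let C := D.chart
  refine Sys.degree_eq C.sys (C.pull φ).sys rfl (fun i => rfl) (fun i r hr => hR_pull φ C i hr)
    (hfin_pull φ C) ((C.pull φ).good hg).frac hn (C.good hg) fun M => ?_
  -- the two families of frames of `L'^n`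
  let β : GenFrame (CohB1.tensorPow L' n) :=
    ⟨D.base.U, AmpleX.powElt D.base.e n, AmpleX.isFrame_powElt D.base.he n, D.base.hη⟩
  let τ : ∀ i, Γ(CohB1.tensorPow L' n, φ.left ⁻¹ᵁ C.U i) := fun i =>
    ψ'.hom.app _ (pullElt φ.left (D.sec i))
  have hτ : ∀ i, IsFrame (τ i) := fun i => (isFrame_pullElt φ.left (D.isFrame_sec i)).map_iso ψ'
  let π : ∀ i, Γ(CohB1.tensorPow L' n, C.U i) := fun i => AmpleX.powElt (D.sec i) n
  have hπ : ∀ i, IsFrame (π i) := fun i => AmpleX.isFrame_powElt (D.isFrame_sec i) n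
  let hV : ∀ i, genericPoint A.left ∈ φ.left ⁻¹ᵁ C.U i := fun i => eta_preimage φ (C.hη i)
  let h := rho β (hV C.i0) (τ C.i0)
  have hρτ : ∀ i, rho β (hV i) (τ i) = (C.pull φ).y i * h := fun i => by
    obtain ⟨a, ha⟩ := (D.isFrame_sec C.i0).exists_coord (inf_le_right : C.U i ⊓ C.U C.i0 ≤ C.U C.i0)
      (AModX.res L' inf_le_left (D.sec i))
    have hW : genericPoint A.left ∈ C.U i ⊓ C.U C.i0 := ⟨C.hη i, C.hη C.i0⟩
    have h1 := congrArg (rho D.base hW) ha
    rw [rho_smul, rho_res, rho_res, show rho D.base _ (D.sec C.i0) = 1 from rho_self D.base, mul_one] at h1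
    have h2 := congrArg (fun z => ψ'.hom.app _ (pullElt φ.left z)) ha
    dsimp only at h2
    rw [pullElt_smul, Scheme.Modules.Hom.app_smul, ← res_pullElt, ← res_pullElt, AModX.app_res, AModX.app_res] at h2
    have h3 := congrArg (rho β (eta_preimage φ hW)) h2
    rw [rho_smul, rho_res, rho_res, ← ffMap_gm φ hW, ← h1] at h3
    exact h3
  have hρπ : ∀ i, rho β (C.hη i) (π i) = C.y i ^ n := fun i => rho_pow D.base (C.hη i) (D.sec i) n
  have hh : h ^ M ≠ 0 := pow_ne_zero _ (rho_ne_zero β _ (hτ _))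
  have key : ∀ f, f ∈ (C.pull φ).sys.F M ↔ h ^ M * f ∈ C.sys.F (n * M) := fun f => by
    have e1 : (∀ i, (h ^ M * f) / rho β (hV i) (τ i) ^ M ∈ sect A (φ.left ⁻¹ᵁ C.U i)) ↔ f ∈ (C.pull φ).sys.F M := by
      refine forall_congr' fun i => ?_
      rw [hρτ, mul_pow, mul_comm (h ^ M) f, mul_div_mul_right _ _ hh]
      rfl
    have e2 : (∀ i, (h ^ M * f) / rho β (C.hη i) (π i) ^ M ∈ sect A (C.U i)) ↔ h ^ M * f ∈ C.sys.F (n * M) := by
      refine forall_congr' fun i => ?_
      rw [hρπ, ← pow_mul]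
      rfl
    rw [← e1, ← e2]
    exact ⟨fun H => bounded_transfer β _ hV τ hτ (C.pull φ).cover _ C.hη π hπ M _ H,
      fun H => bounded_transfer β _ C.hη π hπ C.cover _ hV τ hτ M _ H⟩
  refine ⟨LinearEquiv.ofSubmodules (LinearEquiv.ofBijective (LinearMap.mulLeft k (h ^ M))
    ⟨mul_right_injective₀ hh, fun z => ⟨z / h ^ M, by simp [mul_div_cancel₀ _ hh]⟩⟩) _ _ ?_⟩
  ext z
  simp only [Submodule.mem_map]
  exact ⟨by rintro ⟨f, hf, rfl⟩; exact (key f).1 hf,
    fun hz => ⟨z / h ^ M, (key _).2 (by rwa [mul_div_cancel₀ _ hh]), mul_div_cancel₀ _ hh⟩⟩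

end Groth.Agent.AVDegLib
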