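import Groth.Agent.AVDegLib.Pull
import Groth.Agent.H23.MulTangent
import Groth.Agent.SmoothDim.Basic
import Groth.Agent.S7795
import Mathlib.RingTheory.Kaehler.TensorProduct

/-!
In characteristic `p` the `p`-th power map kills all differentials of the function field.
-/

noncomputable section

set_option linter.style.haveILetI false
set_option linter.unusedSectionVars false
set_option backward.isDefEq.respectTransparency false
set_option backward.isDefEq.respectTransparency.types false
set_option maxHeartbeats 1000000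
set_option autoImplicit false

universe u

open CategoryTheory CategoryTheory.Limits MonoidalCategory CartesianMonoidalCategory MonObj AlgebraicGeometry TopologicalSpace
open TrivSqZeroExt

namespace Groth.Agent.AVDegLib

open Groth.Agent.GrpSchLib Groth.Agent.H23.MulTangent

variable {K : Type u} [Field K]

section dual

variable {X : Over (Spec (CommRingCat.of K))} [GrpObj X] {B : Type u} [CommRing B] [Algebra K B]
  (j : Spec (CommRingCat.of B) ⟶ X.left) [IsOpenImmersion j]
  (hj : j ≫ X.hom = Spec.map (CommRingCat.ofHom (algebraMap K B)))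
  {χ : B →ₐ[K] K} (hone : pt j hj χ = 1) (L : Type u) [Field L] [Algebra K L]

theorem subsingleton_dual (M : Type u) [AddCommGroup M] [Module L M] [Module Lᵐᵒᵖ M] [IsCentralScalar L M] :
    Subsingleton (PrimeSpectrum (TrivSqZeroExt L M)) := subsingleton_spec (K := L) M

variable (M : Type u) [AddCommGroup M] [Module L M] [Module Lᵐᵒᵖ M] [IsCentralScalar L M]
  [Module K M] [IsScalarTower K L M]

include hone in
theorem exists_chart_pt (P : specOver K (TrivSqZeroExt L M) ⟶ X)
    (hP : specHom ((TrivSqZeroExt.fstHom K L M)) ≫ P = 1) :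
    ∃ g : B →ₐ[K] TrivSqZeroExt L M, (TrivSqZeroExt.fstHom K L M).comp g = (Algebra.ofId K L).comp χ ∧
      pt j hj g = P := by
  have h1 : pt j hj ((Algebra.ofId K L).comp χ) = 1 := by rw [← pt_comp, hone, MonObj.comp_one]
  have := subsingleton_dual L M
  have hr : Set.range P.left ⊆ Set.range j := by
    rintro _ ⟨q, rfl⟩
    let p₀ : Spec (CommRingCat.of L) := IsLocalRing.closedPoint L
    have e : (specHom (TrivSqZeroExt.fstHom K L M)).left p₀ = q := Subsingleton.elim (α := PrimeSpectrum _) _ _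
    rw [← e, ← Scheme.Hom.comp_apply]
    exact ⟨_, (congrArg (fun f : specOver K L ⟶ X => f.left p₀) (hP.trans h1.symm)).symm⟩
  obtain ⟨g, rfl⟩ := exists_pt_of_range j hj P hr
  exact ⟨g, pt_injective j hj ((pt_comp j hj g _).symm.trans (hP.trans h1.symm)), rfl⟩

end dual

section kill

variable {X : Over (Spec (CommRingCat.of K))} [GrpObj X] (L : Type u) [Field L] [Algebra K L]

/-- Tangent vectors at the unit are killed by the characteristic. -/
theorem pow_eq_one (p : ℕ) [CharP L p] (t : specOver K (TrivSqZeroExt L L) ⟶ X)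
    (ht : specHom (TrivSqZeroExt.fstHom K L L) ≫ t = 1) : t ^ p = 1 := by
  obtain ⟨B, _, _, j, _, hj, χ, hχ⟩ := exists_chart (X := X) η
  have hone : pt j hj χ = 1 := hχ
  let fL : B →ₐ[K] L := (Algebra.ofId K L).comp χ
  obtain ⟨g, hg, rfl⟩ := exists_chart_pt j hj hone L L t ht
  let cst : B →ₐ[K] TrivSqZeroExt L L := (TrivSqZeroExt.inlAlgHom K L L).comp fL
  have hcst : pt j hj cst = 1 := by
    rw [← pt_comp, show pt j hj fL = 1 by rw [← pt_comp, hone, MonObj.comp_one], MonObj.comp_one]
  -- addition of tangent vectors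
  have hadd : ∀ g₁ g₂ g₃ : B →ₐ[K] TrivSqZeroExt L L,
      (TrivSqZeroExt.fstHom K L L).comp g₁ = fL → (TrivSqZeroExt.fstHom K L L).comp g₂ = fL →
      pt j hj g₁ * pt j hj g₂ = pt j hj g₃ → ∀ b, (g₃ b).snd = (g₁ b).snd + (g₂ b).snd := by
    intro g₁ g₂ g₃ h₁ h₂ h₃ b
    let i₁ : TrivSqZeroExt L L →ₐ[K] TrivSqZeroExt L (L × L) := (TrivSqZeroExt.map (LinearMap.inl L L L)).restrictScalars K
    let i₂ : TrivSqZeroExt L L →ₐ[K] TrivSqZeroExt L (L × L) := (TrivSqZeroExt.map (LinearMap.inr L L L)).restrictScalars K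
    let p₁ : TrivSqZeroExt L (L × L) →ₐ[K] TrivSqZeroExt L L := (TrivSqZeroExt.map (LinearMap.fst L L L)).restrictScalars K
    let p₂ : TrivSqZeroExt L (L × L) →ₐ[K] TrivSqZeroExt L L := (TrivSqZeroExt.map (LinearMap.snd L L L)).restrictScalars K
    let s : TrivSqZeroExt L (L × L) →ₐ[K] TrivSqZeroExt L L :=
      (TrivSqZeroExt.map (LinearMap.fst L L L + LinearMap.snd L L L)).restrictScalars K
    have hf₁ : ∀ b, (g₁ b).fst = fL b := fun b => AlgHom.congr_fun h₁ b
    have hf₂ : ∀ b, (g₂ b).fst = fL b := fun b => AlgHom.congr_fun h₂ b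
    have a₁ : p₁.comp (i₁.comp g₁) = g₁ := by ext b <;> simp [p₁, i₁]
    have a₂ : p₁.comp (i₂.comp g₂) = cst := by ext b <;> simp [p₁, i₂, cst, hf₂]
    have b₁ : p₂.comp (i₁.comp g₁) = cst := by ext b <;> simp [p₂, i₁, cst, hf₁]
    have b₂ : p₂.comp (i₂.comp g₂) = g₂ := by ext b <;> simp [p₂, i₂]
    have c₁ : s.comp (i₁.comp g₁) = g₁ := by ext b <;> simp [s, i₁]
    have c₂ : s.comp (i₂.comp g₂) = g₂ := by ext b <;> simp [s, i₂]
    let P := pt j hj (i₁.comp g₁) * pt j hj (i₂.comp g₂)
    have hP : specHom (TrivSqZeroExt.fstHom K L (L × L)) ≫ P = 1 := by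
      have e₁ : (TrivSqZeroExt.fstHom K L (L × L)).comp (i₁.comp g₁) = fL := by ext b; simp [i₁, hf₁]
      have e₂ : (TrivSqZeroExt.fstHom K L (L × L)).comp (i₂.comp g₂) = fL := by ext b; simp [i₂, hf₂]
      rw [MonObj.comp_mul, pt_comp, pt_comp, e₁, e₂,
        show pt j hj fL = 1 by rw [← pt_comp, hone, MonObj.comp_one], _root_.mul_one]
    obtain ⟨g', -, hg'⟩ := exists_chart_pt j hj hone L (L × L) P hP
    have q₁ : p₁.comp g' = g₁ := pt_injective j hj (by
      rw [← pt_comp, hg', MonObj.comp_mul, pt_comp, pt_comp, a₁, a₂, hcst, _root_.mul_one])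
    have q₂ : p₂.comp g' = g₂ := pt_injective j hj (by
      rw [← pt_comp, hg', MonObj.comp_mul, pt_comp, pt_comp, b₁, b₂, hcst, _root_.one_mul])
    have q₃ : s.comp g' = g₃ := pt_injective j hj (by
      rw [← pt_comp, hg', MonObj.comp_mul, pt_comp, pt_comp, c₁, c₂, h₃])
    rw [← AlgHom.congr_fun q₃ b, ← AlgHom.congr_fun q₁ b, ← AlgHom.congr_fun q₂ b]
    simp [s, p₁, p₂]
  have key : ∀ m : ℕ, ∃ gm : B →ₐ[K] TrivSqZeroExt L L, pt j hj gm = pt j hj g ^ m ∧
      (TrivSqZeroExt.fstHom K L L).comp gm = fL ∧ ∀ b, (gm b).snd = m • (g b).snd := by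
    intro m
    induction m with
    | zero => exact ⟨cst, by rw [hcst, _root_.pow_zero], by ext b; simp [cst], fun b => by simp [cst]⟩
    | succ m ih =>
      obtain ⟨gm, h1, h2, h3⟩ := ih
      obtain ⟨g', hg', h⟩ := exists_chart_pt j hj hone L L (pt j hj gm * pt j hj g) (by
        rw [MonObj.comp_mul, pt_comp, pt_comp, h2, hg,
          show pt j hj fL = 1 by rw [← pt_comp, hone, MonObj.comp_one], _root_.mul_one])
      exact ⟨g', by rw [h, h1, _root_.pow_succ], hg', fun b => by
        rw [hadd gm g g' h2 hg h.symm, h3, succ_nsmul]⟩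
  obtain ⟨gn, h1, h2, h3⟩ := key p
  have hgn : gn = cst := AlgHom.ext fun b => TrivSqZeroExt.ext
    (by simpa [cst] using AlgHom.congr_fun h2 b)
    (by rw [h3, ← Nat.cast_smul_eq_nsmul L, CharP.cast_eq_zero, zero_smul]; simp [cst])
  rw [← h1, hgn, hcst]

end kill

section function_field

variable {A : Over (Spec (CommRingCat.of K))} [IsIntegral A.left]

/-- The differential of the pullback along the `p`-th power map vanishes. -/
theorem D_ffMap_pow [GrpObj A] [IsCommMonObj A] (p : ℕ) [CharP A.left.functionField p]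
    [IsFinite (𝟙 A ^ p : A ⟶ A).left] [Surjective (𝟙 A ^ p : A ⟶ A).left] (x : A.left.functionField) :
    KaehlerDifferential.D K A.left.functionField (ffMap (𝟙 A ^ p : A ⟶ A) x) = 0 := by
  let φ : A ⟶ A := 𝟙 A ^ p
  let L := A.left.functionField
  suffices hD : ∀ (D : Derivation K L Ω[L⁄K]) (x : L), D (ffMap φ x) = 0 from hD _ x
  intro D x
  obtain ⟨U, hU, hη, -⟩ := exists_isAffineOpen_mem_and_subset (x := genericPoint A.left) (U := ⊤) trivial
  let V := φ.left ⁻¹ᵁ U
  have hV : genericPoint A.left ∈ V := eta_preimage φ hη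
  suffices hU0 : ∀ a : Γ(A.left, U), D (ffMap φ (gm U hη a)) = 0 by
    obtain ⟨a, ha, b, hb, -, rfl⟩ := frac_sect hU hη x
    obtain ⟨a, rfl⟩ := ha hη
    obtain ⟨b, rfl⟩ := hb hη
    rw [map_div₀, Derivation.leibniz_div, hU0, hU0]
    simp
  intro a
  -- reduce to functionals
  haveI : Module.Free L Ω[L⁄K] := inferInstance
  refine (Module.forall_dual_apply_eq_zero_iff L _).1 fun ℓ => ?_
  let D' : Derivation K L L := ℓ.compDer D
  show D' (ffMap φ (gm U hη a)) = 0
  obtain ⟨ψU, hψU⟩ := Spec.map_surjective (hU.fromSpec ≫ A.hom)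
  obtain ⟨ψV, hψV⟩ := Spec.map_surjective ((hU.preimage φ.left).fromSpec ≫ A.hom)
  letI algU : Algebra K Γ(A.left, U) := ψU.hom.toAlgebra
  letI algV : Algebra K Γ(A.left, V) := ψV.hom.toAlgebra
  have hψ : ψU ≫ φ.left.app U = ψV := by
    apply Spec.map_injective
    rw [Spec.map_comp, hψU, hψV, ← Category.assoc, ← Scheme.Hom.appLE_eq_app,
      IsAffineOpen.SpecMap_appLE_fromSpec φ.left hU (hU.preimage φ.left) le_rfl, Category.assoc, Over.w]
  have hgen : ∀ c : K, gm V hV (ψV c) = algebraMap K L c := by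
    intro c
    have h1 : Spec.map (A.left.presheaf.germ V _ hV) ≫ (hU.preimage φ.left).fromSpec ≫ A.hom =
        Spec.map (CommRingCat.ofHom (algebraMap K L)) := by
      rw [← Category.assoc, ← IsAffineOpen.fromSpecStalk, (hU.preimage φ.left).fromSpecStalk_eq_fromSpecStalk hV]
      refine ext_of_isAffine ?_
      rw [Scheme.Hom.comp_appTop, Scheme.fromSpecStalk_appTop]
      rw [← cancel_mono (Scheme.ΓSpecIso (A.left.presheaf.stalk (genericPoint A.left))).hom,
        Scheme.ΓSpecIso_naturality]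
      ext c
      simp [RingHom.algebraMap_toAlgebra, ffAlgebra]
    rw [← hψV, ← Spec.map_comp] at h1
    exact congrArg (fun q => q.hom c) (Spec.map_injective h1)
  let inc : Γ(A.left, V) →ₐ[K] L := { gm V hV with commutes' := hgen }
  let cst : Γ(A.left, V) →ₐ[K] TrivSqZeroExt L L := (TrivSqZeroExt.inlAlgHom K L L).comp inc
  let g : Γ(A.left, V) →ₐ[K] TrivSqZeroExt L L := AlgHom.ofLinearMap
    ((TrivSqZeroExt.inlAlgHom K L L).toLinearMap ∘ₗ inc.toLinearMap +
      ((TrivSqZeroExt.inrHom L L).restrictScalars K) ∘ₗ D'.toLinearMap ∘ₗ inc.toLinearMap)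
    (by simp) (fun u v => by
      ext
      · simp
      · simp [Derivation.leibniz]; ring)
  let jV := (hU.preimage φ.left).fromSpec
  let jU := hU.fromSpec
  let ty := pt (X := A) jV hψV.symm g
  let tc := pt (X := A) jV hψV.symm cst
  have hfst : specHom (TrivSqZeroExt.fstHom K L L) ≫ (ty * tc⁻¹) = 1 := by
    rw [MonObj.comp_mul, GrpObj.comp_inv, pt_comp, pt_comp, mul_inv_eq_one]
    congr 1
    ext u
    simp [g, cst]
  have hpow : ty ^ p = tc ^ p := by
    have := pow_eq_one L p (ty * tc⁻¹) hfst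
    rwa [_root_.mul_pow, inv_pow, mul_inv_eq_one] at this
  let φa : Γ(A.left, U) →ₐ[K] Γ(A.left, V) :=
    { (φ.left.app U).hom with commutes' := fun c => congrArg (fun q => q.hom c) hψ }
  have hfn : ∀ h : Γ(A.left, V) →ₐ[K] TrivSqZeroExt L L,
      pt (X := A) jV hψV.symm h ^ p = pt (X := A) jU hψU.symm (h.comp φa) := by
    intro h
    rw [show pt (X := A) jV hψV.symm h ^ p = pt (X := A) jV hψV.symm h ≫ φ by
      simp [φ, MonObj.comp_pow]]
    ext1
    show (_ ≫ jV) ≫ φ.left = _ ≫ jU
    rw [Category.assoc, ← IsAffineOpen.SpecMap_appLE_fromSpec φ.left hU (hU.preimage φ.left) le_rfl,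
      Scheme.Hom.appLE_eq_app, ← Category.assoc]
    exact congrArg (· ≫ _) (Spec.map_comp _ _).symm
  rw [hfn, hfn] at hpow
  have h := congrArg TrivSqZeroExt.snd (AlgHom.congr_fun (pt_injective jU hψU.symm hpow) a)
  rw [ffMap_gm φ hη]
  simpa [g, cst, φa, inc] using h

/-- The differentials of the function field of an abelian variety have rank its dimension. -/
theorem finrank_omega [GrpObj A] [IsProper A.hom] [GeometricallyIntegral A.hom] {g : ℕ}
    (hg : topologicalKrullDim A.left = g) : Module.finrank A.left.functionField Ω[A.left.functionField⁄K] = g := by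
  haveI : Smooth A.hom := S7795.result A
  obtain ⟨W, hW, V, hV, hη, e, hstd⟩ := Smooth.exists_isStandardSmooth A.hom (genericPoint A.left)
  haveI : Subsingleton (Spec (CommRingCat.of K)) := inferInstanceAs (Subsingleton (PrimeSpectrum K))
  obtain rfl : W = ⊤ := top_le_iff.1 fun x _ => Subsingleton.elim (A.hom (genericPoint A.left)) x ▸ e hη
  let φ : K →+* Γ(A.left, V) := (A.hom.appLE ⊤ V e).hom.comp (Scheme.ΓSpecIso (CommRingCat.of K)).inv.hom
  have hφ : φ.IsStandardSmooth := RingHom.isStandardSmooth_respectsIso.2 _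
    (Scheme.ΓSpecIso (CommRingCat.of K)).symm.commRingCatIsoToRingEquiv hstd
  letI : Algebra K Γ(A.left, V) := φ.toAlgebra
  haveI : Algebra.IsStandardSmooth K Γ(A.left, V) := hφ
  haveI : Nonempty V := ⟨⟨_, hη⟩⟩
  obtain ⟨I, J, _, _, ⟨P⟩⟩ := ‹Algebra.IsStandardSmooth K Γ(A.left, V)›.out
  haveI : Algebra.IsStandardSmoothOfRelativeDimension P.dimension K Γ(A.left, V) :=
    ⟨I, J, inferInstance, inferInstance, P, rfl⟩
  have hd : P.dimension = g := by
    have h1 := SmoothDim.ringKrullDim_eq K Γ(A.left, V) P.dimension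
    have h2 := dim_sect hV hη hg
    rw [← ringKrullDim_eq_of_ringEquiv (RingEquiv.ofBijective
      ((gm V hη).codRestrict (sect A V) fun a => gm_mem_sect hη a)
      ⟨fun a b h => gm_injective V hη (congrArg Subtype.val h), fun ⟨f, hf⟩ => by
        obtain ⟨a, ha⟩ := hf hη; exact ⟨a, Subtype.ext ha⟩⟩), h1] at h2
    exact_mod_cast h2
  let B := Γ(A.left, V)
  let L := A.left.functionField
  haveI := functionField_isFractionRing_of_isAffineOpen A.left V hV
  haveI : IsScalarTower K B L := IsScalarTower.of_algebraMap_eq fun c => (gm_res le_top hη _).symm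
  rw [IsLocalization.finrank_eq (R := B) L (nonZeroDivisors B) le_rfl,
    IsLocalizedModule.finrank_eq (nonZeroDivisors B) (KaehlerDifferential.map K K B L) le_rfl, Module.finrank,
    Algebra.IsStandardSmoothOfRelativeDimension.rank_kaehlerDifferential (S := B) P.dimension, hd]
  simp

end function_field

end Groth.Agent.AVDegLib
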